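import Mathlib
import Cfsg.Agent.ULT.G22
import Cfsg.Agent.Pres.StA2
import Cfsg.Agent.Dih.D8

/-! `L₂(7)` inside `U₃(3)`. -/

set_option autoImplicit false

namespace Cfsg.Agent.ULT.U33
open Cfsg.Agent.Classical Cfsg.Agent.Classical.SmallFields Matrix

/-- images of the transvections -/
def y (i j : Fin 3) (t : ZMod 2) : SU 3 F9 3 := if t = 0 then 1 else
  !![1, u9 [1, 0, 0, 0, 2, 0, 0, 0, 2], u9 [2, 0, 0, 0, 1, 0, 0, 0, 2];
    u9 [1, 4, 6, 7, 0, 4, 3, 7, 1], 1, u9 [0, 0, 6, 0, 2, 0, 3, 0, 0];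
    u9 [0, 7, 8, 4, 1, 3, 5, 6, 1], u9 [2, 0, 0, 0, 0, 3, 0, 6, 0], 1] i j

theorem y_add : ∀ i j t u, y i j (t + u) = y i j t * y i j u := by decide +kernel

theorem y_comm : ∀ i j k l, i ≠ j → k ≠ l → j ≠ k → i ≠ l → ∀ t u,
    y i j t * y k l u = y k l u * y i j t := by decide +kernel

theorem y_rel : ∀ i j k, i ≠ j → j ≠ k → i ≠ k → ∀ t u,
    y i j t * y j k u = y i k (t * u) * y j k u * y i j t := by decide +kernel

/-- the Steinberg system -/
def st : Pres.StA (Fin 3) (ZMod 2) (SU 3 F9 3) where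
  x := y
  add _ := y_add _ _
  comm := y_comm _ _ _ _
  rel h1 h2 h3 t u := by rw [y_rel _ _ _ h1 h2 h3]; group

theorem main {F : Type*} [Field F] [Fintype F] (hF : Fintype.card F = 9)
    {K : Type*} [Field K] [Fintype K] (hK : Fintype.card K = 7) :
    ∃ H : Subgroup (PSU 3 F 3), Nonempty (H ≃* ProjectiveSpecialLinearGroup (Fin 2) K) := by
  obtain ⟨φ, hφ⟩ := st.exists_hom (by simp)
  obtain ⟨⟨e1⟩, ⟨e2⟩⟩ := Dih.psl3_two_equiv hK (ZMod.card 2)
  obtain ⟨e3⟩ := su_psu hF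
  haveI := SLBasic.isSimpleGroup_PSL (ι := Fin 3) (F := ZMod 2) (by simp)
  haveI := (e2.symm.trans e1).isSimpleGroup
  have h : Function.Injective φ := (MonoidHom.ker_eq_bot_iff _).mp
    ((MonoidHom.normal_ker φ).eq_bot_or_eq_top.resolve_right fun e => by
      have := hφ 0 1 1 (by decide)
      rw [show φ _ = 1 from e.ge (Subgroup.mem_top _)] at this
      exact absurd this (by decide +kernel : 1 ≠ y 0 1 1))
  exact ⟨_, ⟨(MonoidHom.ofInjective (f := e3.toMonoidHom.comp φ) (e3.injective.comp h)).symm.trans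
    e2.symm⟩⟩

end Cfsg.Agent.ULT.U33
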