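import Cfsg.Agent.ULT.AP3

/-! Pairs of `p`-elements in alternating groups. -/

set_option maxRecDepth 100000

namespace Cfsg.Agent.ULT.AP
open Equiv Equiv.Perm Finset

variable {α : Type*} [Fintype α] [DecidableEq α]

omit [Fintype α] [DecidableEq α] in
theorem tri_ext {w : Perm α} (hw : ∀ x, w (w (w x)) = x) {L : List α} (hn : L.Nodup)
    (hL : ∀ x ∈ L, w x ∈ L) {y : α} (hy : y ∉ L) (h : w y ≠ y) :
    (L ++ [y, w y, w (w y)]).Nodup ∧ ∀ x ∈ L ++ [y, w y, w (w y)], w x ∈ L ++ [y, w y, w (w y)] := by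
  have h1 : w (w y) ≠ y := fun e => h (by have := hw y; rwa [e] at this)
  have h2 : w (w y) ≠ w y := fun e => h (w.injective e)
  have h3 : w y ∉ L := fun e => hy (hw y ▸ hL _ (hL _ e))
  have h4 : w (w y) ∉ L := fun e => hy (hw y ▸ hL _ e)
  constructor
  · rw [List.nodup_append]
    refine ⟨hn, by simp [h.symm, h1.symm, h2.symm], fun a ha b hb => ?_⟩
    simp only [List.mem_cons, List.not_mem_nil, or_false] at hb
    rcases hb with rfl | rfl | rfl <;> rintro rfl <;> contradiction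
  · intro x hx
    rw [List.mem_append] at hx ⊢
    rcases hx with hx | hx
    · exact Or.inl (hL x hx)
    · right
      simp only [List.mem_cons, List.not_mem_nil, or_false] at hx
      rcases hx with rfl | rfl | rfl <;> simp [hw]

theorem exists_not_mem (L : List α) (h : L.length < Fintype.card α) : ∃ y, y ∉ L := by
  by_contra hc
  push Not at hc
  have : (univ : Finset α) ⊆ L.toFinset := fun y _ => List.mem_toFinset.2 (hc y)
  have h1 := card_le_card this
  have h2 := L.toFinset_card_le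
  rw [card_univ] at h1
  omega

omit [Fintype α] [DecidableEq α] in
theorem nodup_snoc {L : List α} (hn : L.Nodup) {y : α} (hy : y ∉ L) : (L ++ [y]).Nodup := by
  rw [List.nodup_append]
  refine ⟨hn, by simp, fun a ha b hb => ?_⟩
  rw [List.mem_singleton] at hb
  rintro rfl
  exact hy (hb ▸ ha)

/-- window permutations -/
def w5 : Perm (Fin 5) := ⟨![4, 1, 0, 3, 2], ![2, 1, 4, 3, 0], by decide, by decide⟩
/-- window permutations -/
def w7 : Perm (Fin 7) := ⟨![2, 4, 5, 3, 6, 0, 1], ![5, 6, 0, 3, 1, 2, 4], by decide, by decide⟩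
/-- window permutations -/
def e7 : Perm (Fin 7) := ⟨![3, 1, 2, 4, 0, 5, 6], ![4, 1, 2, 0, 3, 5, 6], by decide, by decide⟩
/-- window permutations -/
def w9 : Perm (Fin 9) :=
  ⟨![2, 4, 5, 7, 6, 0, 1, 8, 3], ![5, 6, 0, 8, 1, 2, 4, 3, 7], by decide, by decide⟩
/-- window permutations -/
def e9 : Perm (Fin 9) :=
  ⟨![3, 1, 2, 8, 7, 5, 6, 0, 4], ![7, 1, 2, 0, 8, 5, 6, 4, 3], by decide, by decide⟩

theorem core_three {w : Perm α} (hw : ∀ x, w (w (w x)) = x) (h1 : w ≠ 1)
    (hm : Odd (Fintype.card α)) (h7 : 7 ≤ Fintype.card α) :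
    ∃ u : Perm α, u.IsCycleOn (univ : Finset α) ∧ Pr 3 u w := by
  have hs : sign w = 1 := sign_of_odd (n := 3) (by ext x; simp [pow_succ, hw]) (by decide)
  obtain ⟨a, ha⟩ : ∃ a, w a ≠ a := by
    by_contra h
    push Not at h
    exact h1 (Equiv.ext h)
  obtain ⟨n1, c1⟩ := tri_ext hw (L := []) (by simp) (by simp) (by simp) ha
  by_cases hb : ∃ b, b ∉ [] ++ [a, w a, w (w a)] ∧ w b ≠ b
  · obtain ⟨b, hb1, hb⟩ := hb
    obtain ⟨n2, c2⟩ := tri_ext hw n1 c1 hb1 hb
    obtain ⟨z, hz⟩ := exists_not_mem ([] ++ [a, w a, w (w a)] ++ [b, w b, w (w b)])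
      (by simp; omega)
    by_cases hz' : w z = z
    · have hn := nodup_snoc n2 hz
      clear n1 c1 n2 c2 hz hb1
      have hn2 := List.nodup_reverse.2 hn
      simp only [List.reverse_cons, List.reverse_nil, List.nil_append, List.cons_append,
        List.nodup_cons, List.mem_cons, List.not_mem_nil, not_or, List.nodup_nil,
        or_false, and_true, not_false_eq_true] at hn hn2
      refine window (by decide) hs hm (by omega) ![a, b, w a, z, w b, w (w a), w (w b)] ?_ w7 e7 ?_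
        1 5 2 6 4 1 4 (Nat.ModEq.refl _) (by simp) (by decide)
      · rw [← List.nodup_ofFn]; simp [-EmbeddingLike.apply_eq_iff_eq, hn, hn2]
      · intro i; fin_cases i <;> simp [w7, hw, hz']
    · obtain ⟨hn, -⟩ := tri_ext hw n2 c2 hz hz'
      clear n1 c1 n2 c2 hz hb1
      have hn2 := List.nodup_reverse.2 hn
      simp only [List.reverse_cons, List.reverse_nil, List.nil_append, List.cons_append,
        List.nodup_cons, List.mem_cons, List.not_mem_nil, not_or, List.nodup_nil,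
        or_false, and_true, not_false_eq_true] at hn hn2
      refine window (by decide) hs hm (by omega)
        ![a, b, w a, z, w b, w (w a), w (w b), w z, w (w z)] ?_ w9 e9 ?_
        1 5 2 6 4 1 4 (Nat.ModEq.refl _) (by simp) (by decide)
      · rw [← List.nodup_ofFn]; simp [-EmbeddingLike.apply_eq_iff_eq, hn, hn2]
      · intro i; fin_cases i <;> simp [w9, hw]
  · push Not at hb
    obtain ⟨y, hy⟩ := exists_not_mem ([] ++ [a, w a, w (w a)]) (by simp; omega)
    obtain ⟨z, hz⟩ := exists_not_mem ([] ++ [a, w a, w (w a)] ++ [y]) (by simp; omega)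
    have e1 := hb y hy
    have e2 := hb z (fun h => hz (List.mem_append_left _ h))
    have hn := nodup_snoc (nodup_snoc n1 hy) hz
    clear n1 c1 hb hy hz
    have hn2 := List.nodup_reverse.2 hn
    simp only [List.reverse_cons, List.reverse_nil, List.nil_append, List.cons_append,
      List.nodup_cons, List.mem_cons, List.not_mem_nil, not_or, List.nodup_nil,
      or_false, and_true, not_false_eq_true] at hn hn2
    obtain ⟨t, ht⟩ := hm
    refine window (by decide) hs ⟨t, ht⟩ (by omega) ![a, y, w (w a), z, w a] ?_ w5 1 ?_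
      1 2 3 4 1 2 (t + 1) ?_ (by simp) (by decide)
    · rw [← List.nodup_ofFn]; simp [-EmbeddingLike.apply_eq_iff_eq, hn, hn2]
    · intro i; fin_cases i <;> simp [w5, hw, e1, e2]
    · rw [ht, show (t + 1) * 2 = 1 + (2 * t + 1) by ring]
      exact Nat.add_modEq_right

theorem odd_cent {p a i : ℕ} (hp : p.Prime) {w : Perm α} (hw : w ^ p ^ a = 1)
    (hc : Fintype.card α = p ^ i) (hi : 0 < i) (hn : Fintype.card α ∉ w.cycleType) :
    ∃ c : Perm α, Commute c w ∧ sign c = -1 := by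
  refine exists_odd_of ?_
  rintro ⟨h1, h2⟩
  rw [← Multiset.nodup_iff_count_le_one] at h2
  have hsub : w.cycleType.toFinset ⊆ ((range i).erase 0).image (p ^ ·) := by
    intro l hl
    rw [Multiset.mem_toFinset] at hl
    have h3 := (dvd_of_mem_cycleType hl).trans (orderOf_dvd_of_pow_eq_one hw)
    obtain ⟨j, -, rfl⟩ := (Nat.dvd_prime_pow hp).1 h3
    have h4 := two_le_of_mem_cycleType hl
    have h5 : p ^ j ≤ Fintype.card α :=
      (le_card_support_of_mem_cycleType hl).trans (card_le_univ _)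
    refine mem_image.2 ⟨j, ?_, rfl⟩
    rw [mem_erase, mem_range]
    refine ⟨by rintro rfl; simp at h4, ?_⟩
    have h6 : p ^ j ≠ Fintype.card α := fun e => hn (e ▸ hl)
    exact (Nat.pow_lt_pow_iff_right hp.one_lt).1 (by omega)
  have e1 : w.cycleType.sum = ∑ l ∈ w.cycleType.toFinset, l := by
    rw [Finset.sum_eq_multiset_sum, Multiset.toFinset_val, h2.dedup, Multiset.map_id']
  have e2 : ∑ l ∈ w.cycleType.toFinset, l ≤ ∑ j ∈ (range i).erase 0, p ^ j :=
    (sum_le_sum_of_subset hsub).trans (sum_image_le_of_nonneg (f := fun l => l) (by simp))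
  have e3 := add_sum_erase (range i) (p ^ ·) (mem_range.2 hi)
  have e4 := Nat.geomSum_lt (s := range i) (n := i) hp.two_le (by simp)
  simp only [pow_zero] at e3
  omega

theorem full_of_mem {w : Perm α} (h : Fintype.card α ∈ w.cycleType) :
    w.IsCycleOn (univ : Finset α) := by
  rw [cycleType_def, Multiset.mem_map] at h
  obtain ⟨c, hc, h1⟩ := h
  have hc' := mem_cycleFactorsFinset_iff.1 hc
  have hs : c.support = univ := by
    apply eq_univ_of_card
    exact h1
  have : c = w := by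
    ext x
    exact hc'.2 x (hs ▸ mem_univ x)
  have h2 := hc'.1.isCycleOn
  rw [← this]
  convert h2 using 1
  ext x
  simp [← mem_support, hs]

theorem core {p a i : ℕ} (hp : p.Prime) (hp3 : 3 ≤ p) {w : Perm α} (hw : w ^ p ^ a = 1)
    (h1 : w ≠ 1) (hc : Fintype.card α = p ^ i) (h5 : 5 ≤ Fintype.card α) :
    ∃ u : Perm α, u.IsCycleOn (univ : Finset α) ∧ Both p u w := by
  have hpo : Odd p := hp.odd_of_ne_two (by omega)
  have hm : Odd (Fintype.card α) := hc ▸ hpo.pow
  have hi : 0 < i := by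
    rcases Nat.eq_zero_or_pos i with rfl | h
    · simp at hc; omega
    · exact h
  by_cases hf : Fintype.card α ∈ w.cycleType
  · have hw' := full_of_mem hf
    by_cases h7 : 7 ≤ Fintype.card α
    · exact ⟨w⁻¹, isCycleOn_inv.2 hw', core_full hpo hw' hm h7⟩
    have h5' : Fintype.card α = 5 := by
      rw [Nat.odd_iff] at hm; omega
    obtain rfl : p = 5 := by
      have : p ∣ 5 := by rw [← h5', hc]; exact dvd_pow_self p hi.ne'
      exact (Nat.prime_dvd_prime_iff_eq hp (by norm_num)).1 this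
    haveI : Nonempty α := Fintype.card_pos_iff.1 (by omega)
    obtain ⟨x⟩ := ‹Nonempty α›
    obtain ⟨ι, hι, h2⟩ := exists_emb hw' (mem_univ x) r5_cyc (by simpa using h5')
    exact ⟨w, hw', both_r5.res ι ι hι hι h2 h2⟩
  obtain ⟨c, c1, c2⟩ := odd_cent hp hw hc hi hf
  have hs : sign w = 1 := sign_of_odd hw hpo.pow
  by_cases hl : ∃ x, 5 ≤ #(cyc w x)
  · obtain ⟨x, hx⟩ := hl
    obtain ⟨u, g, h2, h3⟩ := core_long hpo hs hm hx
    exact ⟨u, h2, Both.of_odd c1 c2 h3⟩
  push Not at hl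
  have h3 : ∀ x, #(cyc w x) = 1 ∨ (#(cyc w x) = 3 ∧ p = 3) := by
    intro x
    obtain ⟨j, -, hj⟩ := (Nat.dvd_prime_pow hp).1 (card_cyc_dvd hw x)
    rcases Nat.eq_zero_or_pos j with rfl | h0
    · left; simpa using hj
    · right
      have h4 : p ≤ p ^ j := Nat.le_self_pow h0.ne' p
      have h6 := hl x
      have h7 : Odd (p ^ j) := hpo.pow
      rw [Nat.odd_iff] at h7 hpo
      omega
  have hw3 : ∀ x, w (w (w x)) = x := by
    intro x
    have : (w ^ 3) x = x := by
      rw [(isCycleOn_cyc w x).pow_apply_eq (self_mem_cyc w x)]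
      rcases h3 x with h | h <;> simp [h]
    simpa [pow_succ] using this
  obtain rfl : p = 3 := by
    by_contra h
    apply h1
    ext x
    have : (w ^ 1) x = x := by
      rw [(isCycleOn_cyc w x).pow_apply_eq (self_mem_cyc w x)]
      rcases h3 x with h' | h'
      · simp [h']
      · exact absurd h'.2 h
    simpa using this
  have h7 : 7 ≤ Fintype.card α := by
    have : 3 ∣ Fintype.card α := hc ▸ dvd_pow_self 3 hi.ne'
    rw [Nat.odd_iff] at hm
    omega
  obtain ⟨u, h2, h4⟩ := core_three hw3 h1 hm h7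
  exact ⟨u, h2, Both.of_odd (g := 1) c1 c2 (by simpa using h4)⟩

theorem three_cases {w : Perm α} (hw : ∀ x, w (w (w x)) = x) (h1 : w ≠ 1)
    (h5 : 5 ≤ Fintype.card α) :
    (∃ ι : Fin 6 → α, Function.Injective ι ∧ ∀ i, w (ι i) = ι (b6 i)) ∨
      ((∃ ι : Fin 5 → α, Function.Injective ι ∧ ∀ i, w (ι i) = ι (a5 i)) ∧
        (6 ≤ Fintype.card α → ∃ ι : Fin 6 → α, Function.Injective ι ∧ ∀ i, w (ι i) = ι (a6 i))) := by
  obtain ⟨a, ha⟩ : ∃ a, w a ≠ a := by
    by_contra h
    push Not at h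
    exact h1 (Equiv.ext h)
  obtain ⟨n1, c1⟩ := tri_ext hw (L := []) (by simp) (by simp) (by simp) ha
  by_cases hb : ∃ b, b ∉ [] ++ [a, w a, w (w a)] ∧ w b ≠ b
  · obtain ⟨b, hb1, hb⟩ := hb
    obtain ⟨n2, c2⟩ := tri_ext hw n1 c1 hb1 hb
    refine Or.inl ⟨![a, w a, w (w a), b, w b, w (w b)], ?_, ?_⟩
    · rw [← List.nodup_ofFn]; exact n2
    · intro i; fin_cases i <;> simp [b6, hw]
  · push Not at hb
    obtain ⟨y, hy⟩ := exists_not_mem ([] ++ [a, w a, w (w a)]) (by simp; omega)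
    obtain ⟨z, hz⟩ := exists_not_mem ([] ++ [a, w a, w (w a)] ++ [y]) (by simp; omega)
    have e1 := hb y hy
    have e2 := hb z (fun h => hz (List.mem_append_left _ h))
    have hn := nodup_snoc (nodup_snoc n1 hy) hz
    refine Or.inr ⟨⟨![a, w a, w (w a), y, z], ?_, ?_⟩, fun h6 => ?_⟩
    · rw [← List.nodup_ofFn]; exact hn
    · intro i; fin_cases i <;> simp [a5, hw, e1, e2]
    · obtain ⟨v, hv⟩ := exists_not_mem ([] ++ [a, w a, w (w a)] ++ [y] ++ [z]) (by simp; omega)
      have e3 := hb v (fun h => hv (List.mem_append_left _ (List.mem_append_left _ h)))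
      refine ⟨![a, w a, w (w a), y, z, v], ?_, ?_⟩
      · rw [← List.nodup_ofFn]; exact nodup_snoc hn hv
      · intro i; fin_cases i <;> simp [a6, hw, e1, e2, e3]

theorem both_three {u w : Perm α} (hu : ∀ x, u (u (u x)) = x) (hu1 : u ≠ 1)
    (hw : ∀ x, w (w (w x)) = x) (hw1 : w ≠ 1) (h5 : 5 ≤ Fintype.card α) : Both 3 u w := by
  have six : ∀ ι : Fin 6 → α, Function.Injective ι → 6 ≤ Fintype.card α := fun ι h => by
    simpa using Fintype.card_le_of_injective ι h
  rcases three_cases hu hu1 h5 with ⟨ι, i1, i2⟩ | ⟨⟨ι, i1, i2⟩, i3⟩ <;>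
    rcases three_cases hw hw1 h5 with ⟨κ, k1, k2⟩ | ⟨⟨κ, k1, k2⟩, k3⟩
  · exact both_b6.res ι κ i1 k1 i2 k2
  · obtain ⟨κ', k4, k5⟩ := k3 (six ι i1)
    exact both_ba6.res ι κ' i1 k4 i2 k5
  · obtain ⟨ι', i4, i5⟩ := i3 (six κ k1)
    exact (both_ba6.res κ ι' k1 i4 k2 i5).symm
  · exact both_a5.res ι κ i1 k1 i2 k2

theorem both_max {p a : ℕ} (hp : p.Prime) (hp3 : 3 ≤ p) {u w : Perm α} (hu : u ^ p ^ a = 1)
    (hw : w ^ p ^ a = 1) (hw1 : w ≠ 1) {x : α} (hx : ∀ y, #(cyc w y) ≤ #(cyc u x))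
    (h5 : 5 ≤ #(cyc u x)) : Both p u w := by
  obtain ⟨i, -, hi⟩ := (Nat.dvd_prime_pow hp).1 (card_cyc_dvd hu x)
  have hpw : ∀ y, ∃ j, #(cyc w y) = p ^ j := fun y =>
    ((Nat.dvd_prime_pow hp).1 (card_cyc_dvd hw y)).imp fun _ h => h.2
  have hd : ∀ {j l : ℕ}, p ^ j ≤ p ^ l → p ^ j ∣ p ^ l := fun h =>
    pow_dvd_pow p ((Nat.pow_le_pow_iff_right hp.one_lt).1 h)
  obtain ⟨B, -, hB, hc, hmax⟩ := greedy (w := w) (fun y z h => by
      obtain ⟨j, hj⟩ := hpw y
      obtain ⟨l, hl⟩ := hpw z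
      rw [hj, hl] at h ⊢
      exact hd h) #(cyc u x) univ (by simp) (fun y _ => by
      obtain ⟨j, hj⟩ := hpw y
      have := hx y
      rw [hj, hi] at this ⊢
      exact hd this) (card_le_univ _)
  obtain ⟨y, hy⟩ : ∃ y, w y ≠ y := by
    by_contra h
    push Not at h
    exact hw1 (Equiv.ext h)
  obtain ⟨z, hz, hyz⟩ := hmax (by omega) y (mem_univ y)
  have hz' : w z ≠ z := by
    intro e
    have h1 : #(cyc w z) ∣ 1 := by
      rw [← (isCycleOn_cyc w z).pow_apply_eq (self_mem_cyc w z)]; simpa using e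
    have h2 : 1 < #(cyc w y) := one_lt_card.2 ⟨_, apply_mem_cyc.2 (self_mem_cyc w y), _,
      self_mem_cyc w y, hy⟩
    have := Nat.le_of_dvd one_pos h1
    omega
  let w₀ : Perm B := w.subtypePerm hB
  have hcB : Fintype.card B = #(cyc u x) := by rw [Fintype.card_coe, hc]
  obtain ⟨u', h1, h2⟩ := core (w := w₀) (a := a) hp hp3 (by
      ext y
      simp [w₀, subtypePerm_pow, hw]) (fun e => hz' (congrArg (fun σ : Perm B => (σ ⟨z, hz⟩ : α)) e))
    (hcB.trans hi) (hcB ▸ h5)
  obtain ⟨ι, i1, i2⟩ := exists_emb (isCycleOn_cyc u x) (self_mem_cyc u x) h1 hcB.symm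
  exact h2.res ι Subtype.val i1 Subtype.val_injective i2 fun _ => rfl

theorem both_all {p a : ℕ} (hp : p.Prime) (hp3 : 3 ≤ p) {u w : Perm α} (hu : u ^ p ^ a = 1)
    (hw : w ^ p ^ a = 1) (hu1 : u ≠ 1) (hw1 : w ≠ 1) (h5 : 5 ≤ Fintype.card α) : Both p u w := by
  haveI : Nonempty α := Fintype.card_pos_iff.1 (by omega)
  obtain ⟨x, -, hx⟩ := exists_max_image univ (fun x => #(cyc u x)) univ_nonempty
  obtain ⟨y, -, hy⟩ := exists_max_image univ (fun x => #(cyc w x)) univ_nonempty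
  by_cases h : 5 ≤ #(cyc u x) ∨ 5 ≤ #(cyc w y)
  · rcases le_total #(cyc u x) #(cyc w y) with h1 | h1
    · exact (both_max hp hp3 hw hu hu1 (fun z => (hx z (mem_univ z)).trans h1) (by omega)).symm
    · exact both_max hp hp3 hu hw hw1 (fun z => (hy z (mem_univ z)).trans h1) (by omega)
  have hpo : Odd p := hp.odd_of_ne_two (by omega)
  have key : ∀ v : Perm α, v ^ p ^ a = 1 → (∀ z, #(cyc v z) < 5) →
      (∀ z, v (v (v z)) = z) ∧ (v ≠ 1 → p = 3) := by
    intro v hv hl
    have h3 : ∀ x, #(cyc v x) = 1 ∨ (#(cyc v x) = 3 ∧ p = 3) := by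
      intro x
      obtain ⟨j, -, hj⟩ := (Nat.dvd_prime_pow hp).1 (card_cyc_dvd hv x)
      rcases Nat.eq_zero_or_pos j with rfl | h0
      · left; simpa using hj
      · right
        have h4 : p ≤ p ^ j := Nat.le_self_pow h0.ne' p
        have h6 := hl x
        have h7 : Odd (p ^ j) := hpo.pow
        rw [Nat.odd_iff] at h7 hpo
        omega
    refine ⟨fun x => ?_, fun h1 => ?_⟩
    · have : (v ^ 3) x = x := by
        rw [(isCycleOn_cyc v x).pow_apply_eq (self_mem_cyc v x)]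
        rcases h3 x with h | h <;> simp [h]
      simpa [pow_succ] using this
    · by_contra h
      apply h1
      ext x
      have : (v ^ 1) x = x := by
        rw [(isCycleOn_cyc v x).pow_apply_eq (self_mem_cyc v x)]
        rcases h3 x with h' | h'
        · simp [h']
        · exact absurd h'.2 h
      simpa using this
  obtain ⟨k1, k2⟩ := key u hu fun z => by have := hx z (mem_univ z); omega
  obtain ⟨k3, -⟩ := key w hw fun z => by have := hy z (mem_univ z); omega
  obtain rfl := k2 hu1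
  exact both_three k1 hu1 k3 hw1 h5

theorem main {p : ℕ} (hp : p.Prime) (hp3 : 3 ≤ p) (h5 : 5 ≤ Fintype.card α)
    (u w : alternatingGroup α) (hu : u ≠ 1) (hw : w ≠ 1)
    (hu' : ∃ k : ℕ, orderOf u = p ^ k) (hw' : ∃ k : ℕ, orderOf w = p ^ k) :
    ∃ g : alternatingGroup α, (¬ ∃ k : ℕ, orderOf (u * (g * w * g⁻¹)) = p ^ k) ∧
      ¬ Group.IsSolvable ↥(Subgroup.closure ({u, g * w * g⁻¹} : Set (alternatingGroup α))) := by
  obtain ⟨a, ha⟩ := hu'
  obtain ⟨b, hb⟩ := hw'
  have h1 : (u : Perm α) ^ p ^ (a + b) = 1 := by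
    rw [← Subgroup.coe_pow, pow_add, pow_mul, ← ha, pow_orderOf_eq_one, one_pow]; rfl
  have h2 : (w : Perm α) ^ p ^ (a + b) = 1 := by
    rw [← Subgroup.coe_pow, pow_add, mul_comm, pow_mul, ← hb, pow_orderOf_eq_one, one_pow]; rfl
  obtain ⟨g, hg, h3, h4⟩ := both_all hp hp3 h1 h2 (fun e => hu (Subtype.ext e))
    (fun e => hw (Subtype.ext e)) h5 1
  refine ⟨⟨g, mem_alternatingGroup.2 hg⟩, ?_, fun hs => h4 ?_⟩
  · rintro ⟨k, hk⟩
    apply h3 k
    have := pow_orderOf_eq_one (u * (⟨g, mem_alternatingGroup.2 hg⟩ * w *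
      ⟨g, mem_alternatingGroup.2 hg⟩⁻¹))
    rw [hk] at this
    exact congrArg Subtype.val this
  · have := Group.isSolvable_of_surjective ((alternatingGroup α).subtype.subgroupMap_surjective
      (Subgroup.closure {u, ⟨g, mem_alternatingGroup.2 hg⟩ * w * ⟨g, mem_alternatingGroup.2 hg⟩⁻¹}))
    rw [MonoidHom.map_closure, Set.image_pair] at this
    exact this

end Cfsg.Agent.ULT.AP
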