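import Mathlib

/-! Pairs of `p`-elements in symmetric groups: restriction lemmas. -/

namespace Cfsg.Agent.ULT.AP
open Equiv Equiv.Perm Finset
open scoped commutatorElement

section
variable {α β : Type*}

theorem ns_res {u v : Perm α} {u₀ v₀ : Perm β} (ι : β → α) (hι : Function.Injective ι)
    (hu : ∀ b, u (ι b) = ι (u₀ b)) (hv : ∀ b, v (ι b) = ι (v₀ b))
    (h : ¬ Group.IsSolvable (Subgroup.closure {u₀, v₀} : Subgroup (Perm β))) :
    ¬ Group.IsSolvable (Subgroup.closure {u, v} : Subgroup (Perm α)) := by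
  intro hs
  apply h
  let L : Subgroup (Perm α × Perm β) := Subgroup.closure {(u, u₀), (v, v₀)}
  have hL : ∀ x ∈ L, ∀ b, x.1 (ι b) = ι (x.2 b) := by
    intro x hx
    induction hx using Subgroup.closure_induction with
    | mem x hx => rcases hx with rfl | rfl <;> assumption
    | one => intro b; rfl
    | mul x y _ _ h1 h2 => intro b; simp [h1, h2]
    | inv x _ h1 =>
      intro b
      have := h1 (x.2⁻¹ b)
      simp only [Prod.fst_inv, Prod.snd_inv]
      rw [Perm.inv_eq_iff_eq, this]; simp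
  have e1 : L.map (MonoidHom.fst _ _) = Subgroup.closure {u, v} := by
    simp [L, MonoidHom.map_closure, Set.image_pair]
  have e2 : L.map (MonoidHom.snd _ _) = Subgroup.closure {u₀, v₀} := by
    simp [L, MonoidHom.map_closure, Set.image_pair]
  rw [← e1] at hs
  rw [← e2]
  haveI : Group.IsSolvable L := by
    refine Group.isSolvable_of_isSolvable_injective (f := (MonoidHom.fst _ _).subgroupMap L) ?_
    rw [injective_iff_map_eq_one]
    rintro ⟨x, hx⟩ h1
    have h2 : x.1 = 1 := congrArg Subtype.val h1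
    have h3 : x.2 = 1 := by
      ext b
      have := hL x hx b
      rw [h2] at this
      exact (hι this).symm
    exact Subtype.ext (Prod.ext h2 h3)
  exact Group.isSolvable_of_surjective ((MonoidHom.snd _ _).subgroupMap_surjective L)

theorem ns_mono {G : Type*} [Group G] {H K : Subgroup G} (h : H ≤ K) (hH : ¬ Group.IsSolvable H) :
    ¬ Group.IsSolvable K := fun _ =>
  hH (Group.isSolvable_of_isSolvable_injective (Subgroup.inclusion_injective h))

theorem ns_cert {G : Type*} [Group G] {H : Subgroup G} {x y z : G} (hx : x ∈ H) (hy : y ∈ H)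
    (hz : z ∈ H) (h1 : x ≠ 1) (key : x = z * ⁅x, y * x * y⁻¹⁆ * z⁻¹) : ¬ Group.IsSolvable H := by
  have key' : (⟨x, hx⟩ : H) = ⟨z, hz⟩ * ⁅(⟨x, hx⟩ : H), ⟨y, hy⟩ * ⟨x, hx⟩ * ⟨y, hy⟩⁻¹⁆ * ⟨z, hz⟩⁻¹ :=
    Subtype.ext key
  refine not_isSolvable_of_mem_derivedSeries (g := ⟨x, hx⟩) (fun e => h1 (congrArg Subtype.val e))
    fun n => ?_
  induction n with
  | zero => exact Subgroup.mem_top _
  | succ n ih =>
    rw [key', (derivedSeries_normal _ _).mem_comm_iff, inv_mul_cancel_left]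
    exact Subgroup.commutator_mem_commutator ih ((derivedSeries_normal _ _).conj_mem _ ih _)

/-- the product is not a `p`-element and the pair generates a non-solvable group -/
def Pr (p : ℕ) (u v : Perm α) : Prop :=
  (∀ k, (u * v) ^ (p ^ k) ≠ 1) ∧ ¬ Group.IsSolvable (Subgroup.closure {u, v} : Subgroup (Perm α))

theorem Pr.res {p : ℕ} {u v : Perm α} {u₀ v₀ : Perm β} (ι : β → α) (hι : Function.Injective ι)
    (hu : ∀ b, u (ι b) = ι (u₀ b)) (hv : ∀ b, v (ι b) = ι (v₀ b)) (h : Pr p u₀ v₀) : Pr p u v := by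
  refine ⟨fun k hk => h.1 k ?_, ns_res ι hι hu hv h.2⟩
  have : ∀ (n : ℕ) b, ((u * v) ^ n) (ι b) = ι (((u₀ * v₀) ^ n) b) := by
    intro n
    induction n with
    | zero => intro b; rfl
    | succ n ih => intro b; simp [pow_succ', ih, hu, hv]
  ext b
  have := this (p ^ k) b
  rw [hk] at this
  exact (hι this).symm

theorem Pr.symm {p : ℕ} {u v : Perm α} (h : Pr p u v) : Pr p v u := by
  refine ⟨fun k hk => h.1 k ?_, by rw [Set.pair_comm]; exact h.2⟩
  have : u * v = u * (v * u) * u⁻¹ := by group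
  rw [this, conj_pow, hk]; simp

theorem Pr.conj {p : ℕ} {u v : Perm α} (h : Pr p u v) (g : Perm α) :
    Pr p (g * u * g⁻¹) (g * v * g⁻¹) :=
  h.res g g.injective (by simp) (by simp)

end

variable {α β : Type*} [Fintype α] [DecidableEq α] [Fintype β] [DecidableEq β]

/-- conjugating elements of both signs work -/
def Both (p : ℕ) (u w : Perm α) : Prop := ∀ ε : ℤˣ, ∃ g : Perm α, sign g = ε ∧ Pr p u (g * w * g⁻¹)

theorem Both.symm {p : ℕ} {u w : Perm α} (h : Both p u w) : Both p w u := by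
  intro ε
  obtain ⟨g, hg, h1⟩ := h ε
  refine ⟨g⁻¹, by simpa using hg, ?_⟩
  have := h1.symm.conj g⁻¹
  simpa [mul_assoc] using this

theorem Both.conj {p : ℕ} {u w : Perm α} (g : Perm α) (h : Both p u (g * w * g⁻¹)) :
    Both p u w := by
  intro ε
  obtain ⟨k, hk, h1⟩ := h (ε * sign g)
  refine ⟨k * g, by rw [Perm.sign_mul, hk, mul_assoc, Int.units_mul_self, mul_one], ?_⟩
  simpa [mul_assoc] using h1

theorem sign_via (ι : β ↪ α) (σ : Perm β) : sign (σ.viaEmbedding ι) = sign σ := by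
  classical
  convert Perm.sign_extendDomain σ (ofInjective ι.1 ι.2) using 2
  rw [Perm.viaEmbedding]; congr

theorem Both.res {p : ℕ} {u w : Perm α} {u₀ w₀ : Perm β} (ι κ : β → α)
    (hι : Function.Injective ι) (hκ : Function.Injective κ)
    (hu : ∀ b, u (ι b) = ι (u₀ b)) (hw : ∀ b, w (κ b) = κ (w₀ b)) (h : Both p u₀ w₀) :
    Both p u w := by
  obtain ⟨s, hs⟩ := Perm.exists_extending_pair κ ι hκ hι
  refine Both.conj s ?_
  have hw' : ∀ b, (s * w * s⁻¹) (ι b) = ι (w₀ b) := by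
    intro b
    have : s⁻¹ (ι b) = κ b := by rw [Perm.inv_eq_iff_eq, hs]
    rw [Perm.mul_apply, Perm.mul_apply, this, hw, hs]
  intro ε
  obtain ⟨g, hg, h1⟩ := h ε
  let e : β ↪ α := ⟨ι, hι⟩
  have a1 : ∀ (σ : Perm β) b, σ.viaEmbedding e (ι b) = ι (σ b) := fun σ b =>
    Perm.viaEmbedding_apply σ e b
  refine ⟨g.viaEmbedding e, by rw [sign_via, hg], h1.res ι hι hu fun b => ?_⟩
  have : (g.viaEmbedding e)⁻¹ (ι b) = ι (g⁻¹ b) := by
    rw [Perm.inv_eq_iff_eq, a1]; simp
  rw [Perm.mul_apply, Perm.mul_apply, this, hw', a1]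
  rfl

theorem Both.of_odd {p : ℕ} {u w c g : Perm α} (hc : Commute c w) (hs : sign c = -1)
    (h : Pr p u (g * w * g⁻¹)) : Both p u w := by
  intro ε
  by_cases he : sign g = ε
  · exact ⟨g, he, h⟩
  refine ⟨g * c, ?_, ?_⟩
  · rw [Perm.sign_mul, hs]
    rcases Int.units_eq_one_or (sign g) with h1 | h1 <;>
      rcases Int.units_eq_one_or ε with h2 | h2 <;> simp_all
  · have : g * c * w * (g * c)⁻¹ = g * w * g⁻¹ := by
      rw [mul_assoc g c w, hc.eq]; group
    rwa [this]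

theorem exists_odd_of {w : Perm α}
    (h : ¬ ((Fintype.card α ≤ w.cycleType.sum + 1) ∧ ∀ i, w.cycleType.count i ≤ 1)) :
    ∃ c : Perm α, Commute c w ∧ sign c = -1 := by
  by_contra hc
  push Not at hc
  apply h
  have : Subgroup.centralizer {w} ≤ alternatingGroup α := by
    intro c hc'
    rw [Subgroup.mem_centralizer_singleton_iff] at hc'
    rw [mem_alternatingGroup]
    rcases Int.units_eq_one_or (sign c) with h1 | h1
    · exact h1
    · exact absurd h1 (hc c hc')
  exact (centralizer_le_alternating_iff.1 this).2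

/-- the cycle of a point -/
def cyc (w : Perm α) (x : α) : Finset α := univ.filter (w.SameCycle x)

theorem mem_cyc {w : Perm α} {x y : α} : y ∈ cyc w x ↔ w.SameCycle x y := by simp [cyc]

theorem self_mem_cyc (w : Perm α) (x : α) : x ∈ cyc w x := mem_cyc.2 SameCycle.rfl

theorem apply_mem_cyc {w : Perm α} {x y : α} : w y ∈ cyc w x ↔ y ∈ cyc w x := by
  simp [mem_cyc]

theorem isCycleOn_cyc (w : Perm α) (x : α) : w.IsCycleOn (cyc w x) := by
  refine ⟨?_, fun a ha b hb => (mem_cyc.1 ha).symm.trans (mem_cyc.1 hb)⟩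
  refine ⟨fun y hy => apply_mem_cyc.2 hy, w.injective.injOn, fun y hy => ⟨w⁻¹ y, ?_, by simp⟩⟩
  apply apply_mem_cyc.1
  simpa using hy

theorem card_cyc_dvd {w : Perm α} {n : ℕ} (h : w ^ n = 1) (x : α) : #(cyc w x) ∣ n := by
  rw [← (isCycleOn_cyc w x).pow_apply_eq (self_mem_cyc w x), h]; rfl

theorem isCycleOn_univ {u : Perm α} {a : α} (h : ∀ y, u.SameCycle a y) :
    u.IsCycleOn (univ : Finset α) := by
  have : cyc u a = univ := by ext y; simp [mem_cyc, h]
  rw [← this]; exact isCycleOn_cyc u a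

omit [DecidableEq α] [DecidableEq β] [Fintype α] in
theorem exists_emb {u : Perm α} {C : Finset α} (hu : u.IsCycleOn C) {x : α} (hx : x ∈ C)
    {u' : Perm β} (hu' : u'.IsCycleOn (univ : Finset β)) (hc : #C = Fintype.card β) :
    ∃ ι : β → α, Function.Injective ι ∧ ∀ y, u (ι y) = ι (u' y) := by
  haveI : Nonempty β := Fintype.card_pos_iff.1 (hc ▸ card_pos.2 ⟨x, hx⟩)
  obtain ⟨a⟩ := ‹Nonempty β›
  have : ∀ y, ∃ k : ℕ, (u' ^ k) a = y := fun y =>
    (hu'.exists_pow_eq (mem_univ a) (mem_univ y)).imp fun _ h => h.2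
  choose k hk using this
  have e : ∀ i j : ℕ, (u ^ i) x = (u ^ j) x ↔ (u' ^ i) a = (u' ^ j) a := by
    intro i j
    rw [hu.pow_apply_eq_pow_apply hx, hu'.pow_apply_eq_pow_apply (mem_univ a), hc, card_univ]
  refine ⟨fun y => (u ^ k y) x, fun y z h => ?_, fun y => ?_⟩
  · rw [← hk y, ← hk z]; exact (e _ _).1 h
  · rw [← Perm.mul_apply, ← pow_succ', e, pow_succ', Perm.mul_apply, hk, hk]

theorem greedy {w : Perm α} (ho : ∀ x y, #(cyc w x) ≤ #(cyc w y) → #(cyc w x) ∣ #(cyc w y))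
    (t : ℕ) : ∀ R : Finset α, (∀ x, w x ∈ R ↔ x ∈ R) → (∀ x ∈ R, #(cyc w x) ∣ t) → t ≤ #R →
      ∃ B ⊆ R, (∀ x, w x ∈ B ↔ x ∈ B) ∧ #B = t ∧
        (0 < t → ∀ y ∈ R, ∃ x ∈ B, #(cyc w y) ≤ #(cyc w x)) := by
  induction t using Nat.strong_induction_on with
  | _ t ih =>
    intro R hR hd ht
    rcases Nat.eq_zero_or_pos t with rfl | h0
    · exact ⟨∅, empty_subset _, by simp, rfl, by simp⟩
    obtain ⟨x, hx, hmax⟩ := exists_max_image R (fun x => #(cyc w x)) (card_pos.1 (by omega))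
    have hC : cyc w x ⊆ R := by
      intro y hy
      obtain ⟨k, rfl⟩ := (mem_cyc.1 hy).exists_nat_pow_eq
      clear hy
      induction k with
      | zero => exact hx
      | succ k ih => rw [pow_succ', Perm.mul_apply, hR]; exact ih
    have hl : 0 < #(cyc w x) := card_pos.2 ⟨x, self_mem_cyc w x⟩
    have hle := Nat.le_of_dvd h0 (hd x hx)
    obtain ⟨B, hB, h1, h2, -⟩ := ih (t - #(cyc w x)) (by omega) (R \ cyc w x)
      (fun y => by rw [mem_sdiff, mem_sdiff, hR, apply_mem_cyc])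
      (fun y hy => Nat.dvd_sub (hd y (mem_sdiff.1 hy).1) (ho _ _ (hmax y (mem_sdiff.1 hy).1)))
      (by rw [card_sdiff_of_subset hC]; omega)
    refine ⟨B ∪ cyc w x, union_subset (hB.trans sdiff_subset) hC, fun y => ?_, ?_, fun _ y hy =>
      ⟨x, mem_union_right _ (self_mem_cyc w x), hmax y hy⟩⟩
    · rw [mem_union, mem_union, h1, apply_mem_cyc]
    · rw [card_union_of_disjoint (disjoint_of_subset_left hB sdiff_disjoint), h2]; omega

end Cfsg.Agent.ULT.AP
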