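import Cfsg.Agent.ULT.AP1

/-! Pairs of `p`-elements in symmetric groups: small cases, merging cycles. -/

set_option maxRecDepth 100000

namespace Cfsg.Agent.ULT.AP
open Equiv Equiv.Perm Finset
open scoped commutatorElement

theorem not_pe {G : Type*} [Group G] {x : G} {q p : ℕ} (hq : x ^ q = 1) (hc : Nat.Coprime q p)
    (h1 : x ≠ 1) (k : ℕ) : x ^ (p ^ k) ≠ 1 := by
  intro h
  have := (pow_gcd_eq_one.2 ⟨hq, h⟩)
  rw [Nat.Coprime.gcd_eq_one (hc.pow_right k), pow_one] at this
  exact h1 this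

theorem cl_l {G : Type*} [Group G] (a b : G) : a ∈ Subgroup.closure ({a, b} : Set G) :=
  Subgroup.subset_closure (by simp)

theorem cl_r {G : Type*} [Group G] (a b : G) : b ∈ Subgroup.closure ({a, b} : Set G) :=
  Subgroup.subset_closure (by simp)

theorem cert1 {G : Type*} [Group G] {a b : G} (h1 : a ≠ 1)
    (key : a = (b * b * a * a) * ⁅a, (b * a * b) * a * (b * a * b)⁻¹⁆ * (b * b * a * a)⁻¹) :
    ¬ Group.IsSolvable (Subgroup.closure ({a, b} : Set G)) :=
  ns_cert (cl_l a b) (mul_mem (mul_mem (cl_r a b) (cl_l a b)) (cl_r a b))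
    (mul_mem (mul_mem (mul_mem (cl_r a b) (cl_r a b)) (cl_l a b)) (cl_l a b)) h1 key

/-- `(0 1 2)` on five points -/
def a5 : Perm (Fin 5) := ⟨![1, 2, 0, 3, 4], ![2, 0, 1, 3, 4], by decide, by decide⟩
/-- `(2 3 4)` on five points -/
def b5 : Perm (Fin 5) := ⟨![0, 1, 3, 4, 2], ![0, 1, 4, 2, 3], by decide, by decide⟩
/-- `(0 1 2 3 4)` -/
def r5 : Perm (Fin 5) := ⟨![1, 2, 3, 4, 0], ![4, 0, 1, 2, 3], by decide, by decide⟩
/-- `(0 1 2)` on six points -/
def a6 : Perm (Fin 6) := ⟨![1, 2, 0, 3, 4, 5], ![2, 0, 1, 3, 4, 5], by decide, by decide⟩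
/-- `(0 1 2)(3 4 5)` -/
def b6 : Perm (Fin 6) := ⟨![1, 2, 0, 4, 5, 3], ![2, 0, 1, 5, 3, 4], by decide, by decide⟩

theorem ns_ab5 : ¬ Group.IsSolvable (Subgroup.closure ({a5, b5} : Set (Perm (Fin 5)))) :=
  cert1 (by decide) (by decide)

theorem both_a5 : Both 3 a5 a5 :=
  Both.of_odd (c := swap 3 4) (g := swap 1 3 * swap 2 4) (by unfold Commute SemiconjBy; decide)
    (by decide) ⟨not_pe (q := 5) (by decide) (by norm_num) (by decide), cert1 (by decide) (by decide)⟩

theorem both_b6 : Both 3 b6 b6 :=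
  Both.of_odd (c := swap 0 3 * swap 1 4 * swap 2 5) (g := swap 2 3 * swap 4 5)
    (by unfold Commute SemiconjBy; decide)
    (by decide) ⟨not_pe (q := 5) (by decide) (by norm_num) (by decide), cert1 (by decide) (by decide)⟩

theorem both_ba6 : Both 3 b6 a6 := by
  refine Both.of_odd (c := swap 3 4) (g := swap 2 3) (by unfold Commute SemiconjBy; decide)
    (by decide) ⟨not_pe (q := 4) (by decide) (by norm_num) (by decide), ?_⟩
  set b := swap 2 3 * a6 * (swap 2 3)⁻¹ with hb
  exact ns_cert (y := b) (z := b * b * b6 * b) (cl_l _ _) (cl_r _ _)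
    (mul_mem (mul_mem (mul_mem (cl_r _ _) (cl_r _ _)) (cl_l _ _)) (cl_r _ _)) (by decide)
    (by rw [hb]; decide)

theorem both_r5 : Both 5 r5 r5 := by
  intro ε
  rcases Int.units_eq_one_or ε with rfl | rfl
  · refine ⟨swap 1 2 * swap 3 4, by decide,
      not_pe (q := 3) (by decide) (by norm_num) (by decide), ?_⟩
    exact ns_cert (cl_l _ _) (cl_r _ _) (cl_r _ _) (by decide) (by decide)
  · refine ⟨swap 3 4, by decide, not_pe (q := 2) (by decide) (by norm_num) (by decide), ?_⟩
    exact ns_cert (cl_l _ _) (cl_r _ _) (mul_mem (mul_mem (cl_r _ _) (cl_r _ _)) (cl_r _ _))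
      (by decide) (by decide)

theorem r5_cyc : r5.IsCycleOn (univ : Finset (Fin 5)) :=
  isCycleOn_univ (a := 0) (by
    intro y
    fin_cases y
    exacts [⟨0, by decide⟩, ⟨1, by decide⟩, ⟨2, by decide⟩, ⟨3, by decide⟩, ⟨4, by decide⟩])

variable {α : Type*} [Fintype α] [DecidableEq α]

theorem ns_three {H : Subgroup (Perm α)} {a b c d e : α} (hn : [a, b, c, d, e].Nodup)
    (h1 : swap a b * swap b c ∈ H) (h2 : swap c d * swap d e ∈ H) : ¬ Group.IsSolvable H := by
  have hn2 := List.nodup_reverse.2 hn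
  have hi : Function.Injective ![a, b, c, d, e] := by
    rw [← List.nodup_ofFn]; simpa using hn
  simp only [List.reverse_cons, List.reverse_nil, List.nil_append, List.cons_append,
    List.nodup_cons, List.mem_cons, List.not_mem_nil, not_or, List.nodup_nil,
    or_false, and_true, not_false_eq_true] at hn hn2
  refine ns_mono (H := Subgroup.closure {swap a b * swap b c, swap c d * swap d e}) ?_
    (ns_res ![a, b, c, d, e] hi ?_ ?_ ns_ab5)
  · rw [Subgroup.closure_le]
    rintro x (rfl | rfl) <;> assumption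
  · intro i
    fin_cases i <;> simp [a5, swap_apply_def, hn, hn2]
  · intro i
    fin_cases i <;> simp [b5, swap_apply_def, hn, hn2]

theorem merge_aux {σ : Perm α} {a z : α} (h : ¬ σ.SameCycle a z) (j : ℕ) :
    ∀ y, (σ ^ (j + 1)) y = a → (swap a z * σ).SameCycle y z := by
  induction j with
  | zero =>
    intro y hy
    rw [zero_add, pow_one] at hy
    exact ⟨1, by simp [hy]⟩
  | succ j ih =>
    intro y hy
    by_cases h1 : σ y = a
    · exact ⟨1, by simp [h1]⟩
    rw [pow_succ, Perm.mul_apply] at hy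
    have h2 : σ y ≠ z := by
      intro e
      apply h
      rw [← hy, e]
      exact (sameCycle_pow_left.2 SameCycle.rfl)
    have := ih _ hy
    rw [← sameCycle_apply_left, Perm.mul_apply, swap_apply_of_ne_of_ne h1 h2]
    exact this

theorem merge {σ : Perm α} {a z : α} (h : ¬ σ.SameCycle a z) {y : α}
    (hy : σ.SameCycle a y ∨ σ.SameCycle z y) : (swap a z * σ).SameCycle a y := by
  have k1 : ∀ y, σ.SameCycle a y → (swap a z * σ).SameCycle y z := by
    intro y hy
    obtain ⟨i, hi, -, e⟩ := hy.symm.exists_pow_eq''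
    obtain ⟨j, rfl⟩ : ∃ j, i = j + 1 := ⟨i - 1, by omega⟩
    exact merge_aux h j y e
  have k2 : ∀ y, σ.SameCycle z y → (swap a z * σ).SameCycle y a := by
    intro y hy
    obtain ⟨i, hi, -, e⟩ := hy.symm.exists_pow_eq''
    obtain ⟨j, rfl⟩ : ∃ j, i = j + 1 := ⟨i - 1, by omega⟩
    rw [swap_comm]
    exact merge_aux (fun h' => h h'.symm) j y e
  rcases hy with hy | hy
  · exact (k1 a SameCycle.rfl).trans (k1 y hy).symm
  · exact (k2 y hy).symm

theorem sameCycle_mem {σ : Perm α} {W : Finset α} (hσ : ∀ y, σ y ∈ W ↔ y ∈ W) {a y : α}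
    (h : σ.SameCycle a y) (ha : a ∈ W) : y ∈ W := by
  obtain ⟨k, rfl⟩ := h.exists_nat_pow_eq
  clear h
  induction k with
  | zero => exact ha
  | succ k ih => rw [pow_succ', Perm.mul_apply, hσ]; exact ih

theorem merge_all (σ : Perm α) (a : α) (n : ℕ) : ∀ (W : Finset α) (c₀ : Perm α), #Wᶜ = n → a ∈ W →
    (∀ y, σ y ∈ W ↔ y ∈ W) → (∀ y, y ∉ W → c₀ y = y) → (∀ y, c₀ y ≠ y → c₀.SameCycle a y) →
    (∀ y ∈ W, (c₀ * σ).SameCycle a y) →
    ∃ c : Perm α, (∀ y, c y ≠ y → c.SameCycle a y) ∧ (∀ y, (c * σ).SameCycle a y) ∧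
      ∀ y ∈ W, c₀ y ≠ a → c y = c₀ y := by
  induction n using Nat.strong_induction_on with
  | _ n ih =>
    intro W c₀ hn ha hσ hs h1 h2
    by_cases hW : ∀ y, y ∈ W
    · exact ⟨c₀, h1, fun y => h2 y (hW y), fun _ _ _ => rfl⟩
    push Not at hW
    obtain ⟨z, hz⟩ := hW
    have hc : ∀ y, c₀ y ∈ W ↔ y ∈ W := by
      intro y
      by_cases hy : y ∈ W
      · refine iff_of_true ?_ hy
        by_contra h
        have := hs _ h
        exact h (by rw [c₀.injective this]; exact hy)
      · rw [hs y hy]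
    have hcσ : ∀ y, (c₀ * σ) y ∈ W ↔ y ∈ W := fun y => by rw [Perm.mul_apply, hc, hσ]
    have hB : ∀ y ∈ cyc σ z, y ∉ W := fun y hy hW =>
      hz (sameCycle_mem hσ (mem_cyc.1 hy).symm hW)
    have hB2 : ∀ y ∈ cyc σ z, (c₀ * σ).SameCycle z y := by
      intro y hy
      obtain ⟨k, rfl⟩ := (mem_cyc.1 hy).exists_nat_pow_eq
      clear hy
      induction k with
      | zero => exact SameCycle.rfl
      | succ k ih =>
        have : (σ ^ (k + 1)) z = (c₀ * σ) ((σ ^ k) z) := by
          rw [Perm.mul_apply, hs, pow_succ', Perm.mul_apply]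
          rw [hσ]
          exact hB _ (mem_cyc.2 (sameCycle_pow_right.2 SameCycle.rfl))
        rw [this, sameCycle_apply_right]
        exact ih
    obtain ⟨c, k1, k2, k3⟩ := ih #(W ∪ cyc σ z)ᶜ (by
        rw [← hn]
        apply card_lt_card
        refine ⟨compl_subset_compl.2 subset_union_left, fun h => ?_⟩
        have := h (mem_compl.2 hz)
        simp [self_mem_cyc] at this) (W ∪ cyc σ z) (swap a z * c₀) rfl (mem_union_left _ ha)
      (fun y => by rw [mem_union, mem_union, hσ, apply_mem_cyc])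
      (fun y hy => by
        rw [mem_union, not_or] at hy
        rw [Perm.mul_apply, hs y hy.1, swap_apply_of_ne_of_ne]
        · rintro rfl; exact hy.1 ha
        · rintro rfl; exact hy.2 (self_mem_cyc _ _))
      (fun y hy => by
        refine merge (fun h => hz (sameCycle_mem hc h ha)) ?_
        by_cases h : c₀ y = y
        · rw [Perm.mul_apply, h] at hy
          by_cases e1 : y = a
          · left; rw [e1]
          by_cases e2 : y = z
          · right; rw [e2]
          exact absurd (swap_apply_of_ne_of_ne e1 e2) hy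
        · exact Or.inl (h1 y h))
      (fun y hy => by
        rw [mul_assoc]
        refine merge (fun h => hz (sameCycle_mem hcσ h ha)) ?_
        rcases mem_union.1 hy with hy | hy
        · exact Or.inl (h2 y hy)
        · exact Or.inr (hB2 y hy))
    refine ⟨c, k1, k2, fun y hy hy' => ?_⟩
    have : (swap a z * c₀) y = c₀ y := by
      rw [Perm.mul_apply, swap_apply_of_ne_of_ne hy']
      rintro rfl
      exact hz ((hc y).2 hy)
    rw [k3 y (mem_union_left _ hy) (by rw [this]; exact hy'), this]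

theorem odd_order_of {c : Perm α} {a : α} (h : ∀ y, c y ≠ y → c.SameCycle a y)
    (hs : sign c = 1) : Odd (orderOf c) := by
  by_cases h1 : c = 1
  · simp [h1]
  obtain ⟨y, hy⟩ : ∃ y, c y ≠ y := by
    by_contra h
    push Not at h
    exact h1 (Equiv.ext h)
  have hc : c.IsCycle := ⟨y, hy, fun z hz => (h y hy).symm.trans (h z hz)⟩
  rw [hc.orderOf]
  rw [hc.sign] at hs
  by_contra ho
  rw [Nat.not_odd_iff_even] at ho
  rw [ho.neg_one_pow] at hs
  exact absurd hs (by decide)

theorem sign_full {u : Perm α} {a : α} (h : ∀ y, u.SameCycle a y) (ho : Odd (Fintype.card α)) :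
    sign u = 1 := by
  by_cases h1 : u a = a
  · have : u = 1 := by
      ext y
      rw [← (h y).eq_of_left h1]; exact h1
    simp [this]
  have hc : u.IsCycle := ⟨a, h1, fun z _ => h z⟩
  have : u.support = univ := by
    ext y
    simp only [mem_support, mem_univ, iff_true]
    exact fun e => h1 ((h y).apply_eq_self_iff.2 e)
  rw [hc.sign, this, card_univ, ho.neg_one_pow]; rfl

theorem sign_of_odd {σ : Perm α} {n : ℕ} (h : σ ^ n = 1) (hn : Odd n) : sign σ = 1 := by
  have := congrArg sign h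
  rw [map_pow, map_one] at this
  rcases Int.units_eq_one_or (sign σ) with h1 | h1
  · exact h1
  · rw [h1, hn.neg_one_pow] at this
    exact absurd this (by decide)

/-- a full cycle and a suitable double transposition generate a non-solvable group -/
theorem ns_full {u : Perm α} (hu : u.IsCycleOn (univ : Finset α)) (a : α) {H : Subgroup (Perm α)}
    (huH : u ∈ H) (j k r n : ℕ) (hn : n * r ≡ k [MOD Fintype.card α])
    (hk : ∀ i, 0 < i → i ≤ 4 → ¬ Fintype.card α ∣ i * k)
    (hd : swap ((u ^ j) a) ((u ^ (j + k)) a) * swap ((u ^ (j + r)) a) ((u ^ (j + r + k)) a) ∈ H) :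
    ¬ Group.IsSolvable H := by
  set x : ℕ → α := fun i => (u ^ i) a with hx
  have e : ∀ i l, x i = x l ↔ i ≡ l [MOD Fintype.card α] := fun i l => by
    rw [← card_univ]; exact hu.pow_apply_eq_pow_apply (mem_univ a)
  set s : ℕ → Perm α := fun i => swap (x (j + i)) (x (j + i + k)) with hs
  have hc : ∀ i l, u ^ i * s l * (u ^ i)⁻¹ = s (i + l) := by
    intro i l
    simp only [hs, hx, ← swap_apply_apply, ← Perm.mul_apply, ← pow_add]
    congr 3 <;> ring
  have h1 : ∀ i, s i * s (i + r) ∈ H := by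
    intro i
    have : s 0 * s r ∈ H := hd
    have := H.mul_mem (H.mul_mem (H.pow_mem huH i) this) (H.inv_mem (H.pow_mem huH i))
    rwa [← conj_mul, hc, hc, add_zero] at this
  have h2 : ∀ m i, s i * s (i + m * r) ∈ H := by
    intro m i
    induction m with
    | zero => simp [hs]
    | succ m ih =>
      have := H.mul_mem ih (h1 (i + m * r))
      rw [mul_assoc, ← mul_assoc (s (i + m * r)), hs, swap_mul_self, one_mul] at this
      rw [add_mul, one_mul, ← add_assoc]
      exact this
  have h3 : ∀ i, swap (x (j + i)) (x (j + i + k)) * swap (x (j + i + k)) (x (j + i + k + k)) ∈ H := by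
    intro i
    have := h2 n i
    have e1 : x (j + (i + n * r)) = x (j + i + k) := by
      rw [e, ← add_assoc]; exact hn.add_left _
    have e2 : x (j + (i + n * r) + k) = x (j + i + k + k) := by
      rw [e, ← add_assoc]; exact (hn.add_left _).add_right _
    simpa only [hs, e1, e2] using this
  have hne : ∀ i l, i < l → l ≤ 4 → x (j + i * k) ≠ x (j + l * k) := by
    intro i l h4 h5 h6
    rw [e] at h6
    have := (Nat.modEq_iff_dvd' (by nlinarith)).1 h6
    refine hk (l - i) (by omega) (by omega) ?_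
    rwa [Nat.add_sub_add_left, ← Nat.sub_mul] at this
  refine ns_three (a := x (j + 0 * k)) (b := x (j + 1 * k)) (c := x (j + 2 * k))
    (d := x (j + 3 * k)) (e := x (j + 4 * k)) ?_ ?_ ?_
  · simp only [List.nodup_cons, List.mem_cons, List.not_mem_nil, not_or, List.nodup_nil,
      or_false, and_true, not_false_eq_true]
    refine ⟨⟨?_, ?_, ?_, ?_⟩, ⟨?_, ?_, ?_⟩, ⟨?_, ?_⟩, ?_⟩ <;> exact hne _ _ (by omega) (by omega)
  · have := h3 0
    convert this using 4 <;> ring
  · have := h3 (2 * k)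
    convert this using 4 <;> ring

omit [Fintype α] [DecidableEq α] in
theorem pr_of {p : ℕ} (hp : Odd p) {u v c d : Perm α} (h : u * v = c * d) (hc : Odd (orderOf c))
    (hcd : Commute c d) (hd : d * d = 1) (h1 : d ≠ 1)
    (hns : ∀ H : Subgroup (Perm α), u ∈ H → d ∈ H → ¬ Group.IsSolvable H) : Pr p u v := by
  have e : (u * v) ^ orderOf c = d := by
    obtain ⟨t, ht⟩ := hc
    rw [h, hcd.mul_pow, pow_orderOf_eq_one, one_mul, ht, pow_succ, pow_mul, pow_two, hd, one_pow,
      one_mul]
  refine ⟨fun k hk => not_pe (q := 2) (p := p) (by rw [pow_two, hd])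
    (Nat.coprime_two_left.2 hp) h1 k ?_, hns _ (cl_l _ _) ?_⟩
  · rw [← e, ← pow_mul, mul_comm, pow_mul, hk, one_pow]
  · rw [← e]
    exact pow_mem (mul_mem (cl_l _ _) (cl_r _ _)) _

end Cfsg.Agent.ULT.AP
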