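import Cfsg.Agent.ULT.AP2

/-! Pairs of `p`-elements in symmetric groups: a full cycle against a `p`-element. -/

set_option maxRecDepth 100000

namespace Cfsg.Agent.ULT.AP
open Equiv Equiv.Perm Finset

variable {α : Type*} [Fintype α] [DecidableEq α]

omit [Fintype α] in
theorem commute_swap {c : Perm α} {x y : α} (hx : c x = x) (hy : c y = y) :
    Commute c (swap x y) := by
  have := swap_apply_apply c x y
  rw [hx, hy] at this
  unfold Commute SemiconjBy
  conv_rhs => rw [this]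
  simp

omit [Fintype α] in
theorem dbl_facts {x y z t : α} (h1 : x ≠ y) (h2 : x ≠ z) (h3 : x ≠ t) (h4 : y ≠ z) (h5 : y ≠ t) :
    (swap x y * swap z t) * (swap x y * swap z t) = 1 ∧ swap x y * swap z t ≠ 1 ∧
      Commute (swap x y) (swap z t) := by
  have hc : Commute (swap x y) (swap z t) :=
    commute_swap (swap_apply_of_ne_of_ne h2.symm h4.symm) (swap_apply_of_ne_of_ne h3.symm h5.symm)
  refine ⟨?_, fun e => ?_, hc⟩
  · rw [← pow_two, hc.mul_pow, pow_two, pow_two, swap_mul_self, swap_mul_self, one_mul]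
  · have := congrArg (fun σ : Perm α => σ x) e
    simp only [Perm.mul_apply, swap_apply_of_ne_of_ne h2 h3, swap_apply_left, Perm.one_apply] at this
    exact h1 this.symm

theorem not_dvd_of_odd {m k : ℕ} (hm : Odd m) (h5 : 5 ≤ m) (hk : k = 1 ∨ k = 2 ∨ k = 4) (i : ℕ)
    (h0 : 0 < i) (h4 : i ≤ 4) : ¬ m ∣ i * k := by
  intro h
  have hc : Nat.Coprime m k := by
    have h2 : Nat.Coprime m 2 := Nat.coprime_two_right.2 hm
    rcases hk with rfl | rfl | rfl
    · simp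
    · exact h2
    · exact h2.pow_right 2
  have := Nat.le_of_dvd h0 (hc.dvd_of_dvd_mul_right h)
  omega

omit [DecidableEq α] in
theorem pt_ne {u : Perm α} (hu : u.IsCycleOn (univ : Finset α)) (a : α) {i l : ℕ} (h1 : i < l)
    (h2 : l < i + Fintype.card α) : (u ^ i) a ≠ (u ^ l) a := by
  intro h
  rw [hu.pow_apply_eq_pow_apply (mem_univ a), card_univ] at h
  have := Nat.le_of_dvd (by omega) ((Nat.modEq_iff_dvd' h1.le).1 h)
  omega

theorem pr_two {p : ℕ} (hp : Odd p) {u w c : Perm α} (hu : u.IsCycleOn (univ : Finset α)) (a : α)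
    (hm : Odd (Fintype.card α)) (h5 : 5 ≤ Fintype.card α) (h : u * w = c) (hc : Odd (orderOf c))
    (hf : ∀ i, 1 ≤ i → i ≤ 4 → c ((u ^ i) a) = (u ^ i) a) :
    Pr p u (swap ((u ^ 1) a) ((u ^ 3) a) * w * (swap ((u ^ 1) a) ((u ^ 3) a))⁻¹) := by
  obtain ⟨d1, d2, d3⟩ := dbl_facts (x := (u ^ 1) a) (y := (u ^ 3) a) (z := (u ^ 2) a)
    (t := (u ^ 4) a) (pt_ne hu a (by omega) (by omega)) (pt_ne hu a (by omega) (by omega))
    (pt_ne hu a (by omega) (by omega)) (pt_ne hu a (by omega) (by omega)).symm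
    (pt_ne hu a (by omega) (by omega))
  have c1 := commute_swap (hf 1 (by omega) (by omega)) (hf 3 (by omega) (by omega))
  have c2 := commute_swap (hf 2 (by omega) (by omega)) (hf 4 (by omega) (by omega))
  refine pr_of hp (c := c) ?_ hc (c1.mul_right c2) d1 d2 fun H h1 h2 =>
    ns_full hu a h1 1 2 1 2 (Nat.ModEq.refl _) (not_dvd_of_odd hm h5 (by simp)) h2
  have e : swap ((u ^ 2) a) ((u ^ 4) a) = u * swap ((u ^ 1) a) ((u ^ 3) a) * u⁻¹ := by
    rw [← swap_apply_apply, ← Perm.mul_apply, ← Perm.mul_apply u, ← pow_succ', ← pow_succ']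
  rw [d3.eq, ← mul_assoc c, c2.eq, e, ← h, swap_inv]
  group

theorem core_full {p : ℕ} (hp : Odd p) {w : Perm α} (hw : w.IsCycleOn (univ : Finset α))
    (hm : Odd (Fintype.card α)) (h7 : 7 ≤ Fintype.card α) : Both p w⁻¹ w := by
  haveI : Nonempty α := Fintype.card_pos_iff.1 (by omega)
  obtain ⟨a⟩ := ‹Nonempty α›
  have hu := isCycleOn_inv.2 hw
  set u := w⁻¹ with hu'
  have n13 : (u ^ 1) a ≠ (u ^ 3) a := pt_ne hu a (by omega) (by omega)
  have n56 : (u ^ 5) a ≠ (u ^ 6) a := pt_ne hu a (by omega) (by omega)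
  intro ε
  rcases Int.units_eq_one_or ε with rfl | rfl
  · refine ⟨swap ((u ^ 1) a) ((u ^ 3) a) * swap ((u ^ 5) a) ((u ^ 6) a), by
      rw [Perm.sign_mul, sign_swap n13, sign_swap n56]; rfl, ?_⟩
    have := pr_two hp (w := swap ((u ^ 5) a) ((u ^ 6) a) * w * (swap ((u ^ 5) a) ((u ^ 6) a))⁻¹)
      (c := swap ((u ^ 6) a) ((u ^ 7) a) * swap ((u ^ 6) a) ((u ^ 5) a)) hu a hm (by omega) (by
        have e : swap ((u ^ 6) a) ((u ^ 7) a) = u * swap ((u ^ 5) a) ((u ^ 6) a) * u⁻¹ := by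
          rw [← swap_apply_apply, ← Perm.mul_apply, ← Perm.mul_apply u, ← pow_succ', ← pow_succ']
        rw [e, swap_inv, swap_comm ((u ^ 6) a), hu']
        group) (by
        rw [(isThreeCycle_swap_mul_swap_same (pt_ne hu a (by omega) (by omega)) n56.symm
          (pt_ne hu a (by omega) (by omega)).symm).orderOf]
        decide) (by
        intro i h1 h2
        rw [Perm.mul_apply, swap_apply_of_ne_of_ne (pt_ne hu a (by omega) (by omega))
          (pt_ne hu a (by omega) (by omega)), swap_apply_of_ne_of_ne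
          (pt_ne hu a (by omega) (by omega)) (pt_ne hu a (by omega) (by omega))])
    simpa [mul_assoc] using this
  · exact ⟨_, sign_swap n13, pr_two hp (c := 1) hu a hm (by omega) (by simp [hu']) (by simp)
      (by simp)⟩

theorem core_long {p : ℕ} (hp : Odd p) {w : Perm α} (hs : sign w = 1)
    (hm : Odd (Fintype.card α)) {a : α} (ha : 5 ≤ #(cyc w a)) :
    ∃ u g : Perm α, u.IsCycleOn (univ : Finset α) ∧ Pr p u (g * w * g⁻¹) := by
  obtain ⟨c, k1, k2, k3⟩ := merge_all w⁻¹ a _ (cyc w a) 1 rfl (self_mem_cyc _ _)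
    (fun y => by rw [← apply_mem_cyc]; simp) (fun _ _ => rfl) (fun y hy => absurd rfl hy)
    (fun y hy => by simpa using mem_cyc.1 hy)
  have hu := isCycleOn_univ k2
  have hsc : sign c = 1 := by
    have := sign_full k2 hm
    simpa [hs] using this
  have hw := isCycleOn_inv.2 (isCycleOn_cyc w a)
  have f1 : ∀ i, 1 ≤ i → i ≤ 4 → c ((w⁻¹ ^ i) a) = (w⁻¹ ^ i) a := by
    intro i h1 h2
    refine k3 _ (mem_cyc.2 ?_) ?_
    · rw [← sameCycle_inv]; exact sameCycle_pow_right.2 SameCycle.rfl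
    · intro e
      have := Nat.le_of_dvd h1 ((hw.pow_apply_eq (self_mem_cyc w a)).1 e)
      omega
  have f2 : ∀ i, i ≤ 4 → ((c * w⁻¹) ^ i) a = (w⁻¹ ^ i) a := by
    intro i
    induction i with
    | zero => intro _; rfl
    | succ i ih =>
      intro hi
      rw [pow_succ', Perm.mul_apply, ih (by omega), Perm.mul_apply, ← Perm.mul_apply w⁻¹,
        ← pow_succ', f1 _ (by omega) hi]
  exact ⟨_, _, hu, pr_two hp (c := c) hu a hm (ha.trans (card_le_univ _)) (by simp)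
    (odd_order_of k1 hsc) fun i h1 h2 => by rw [f2 i h2, f1 i h1 h2]⟩

theorem window {p n : ℕ} (hp : Odd p) {w : Perm α} (hs : sign w = 1) (hm : Odd (Fintype.card α))
    (h5 : 5 ≤ Fintype.card α) (ι : Fin (n + 1) → α) (hι : Function.Injective ι)
    (w₀ e₀ : Perm (Fin (n + 1))) (hw : ∀ i, w (ι i) = ι (w₀ i)) (J1 J2 J3 J4 : Fin (n + 1))
    (k r t : ℕ) (ht : t * r ≡ k [MOD Fintype.card α]) (hk : k = 1 ∨ k = 2 ∨ k = 4)
    (hJ : (J2 : ℕ) = J1 + k ∧ (J3 : ℕ) = J1 + r ∧ (J4 : ℕ) = J1 + r + k ∧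
      [0, J1, J2, J3, J4].Nodup ∧ e₀ J1 = J1 ∧ e₀ J2 = J2 ∧ e₀ J3 = J3 ∧ e₀ J4 = J4 ∧
      (∀ i, e₀ ((swap J1 J2 * swap J3 J4) i) = w₀ i + 1) ∧
      ∀ y, e₀ y ≠ y → ∃ l : Fin 5, (e₀ ^ (l : ℕ)) 0 = y) :
    ∃ u : Perm α, u.IsCycleOn (univ : Finset α) ∧ Pr p u w := by
  obtain ⟨j2, j3, j4, hn, f1, f2, f3, f4, he, hc⟩ := hJ
  simp only [List.nodup_cons, List.mem_cons, List.not_mem_nil, not_or, List.nodup_nil,
    or_false, and_true, not_false_eq_true] at hn
  obtain ⟨⟨n1, n2, n3, n4⟩, ⟨n5, n6, n7⟩, ⟨n8, n9⟩, n10⟩ := hn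
  let E : Fin (n + 1) ↪ α := ⟨ι, hι⟩
  have a1 : ∀ (σ : Perm (Fin (n + 1))) b, σ.viaEmbedding E (ι b) = ι (σ b) := fun σ b =>
    Perm.viaEmbedding_apply σ E b
  set d := swap (ι J1) (ι J2) * swap (ι J3) (ι J4) with hd
  have hd1 : ∀ i, d (ι i) = ι ((swap J1 J2 * swap J3 J4) i) := by
    intro i
    simp only [hd, Perm.mul_apply, hι.swap_apply]
  have hW : ∀ y, y ∈ univ.image ι ↔ ∃ i, ι i = y := by simp
  have hd2 : ∀ y, y ∉ univ.image ι → d y = y := by
    intro y hy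
    rw [hW, not_exists] at hy
    rw [hd, Perm.mul_apply, swap_apply_of_ne_of_ne (Ne.symm (hy _)) (Ne.symm (hy _)),
      swap_apply_of_ne_of_ne (Ne.symm (hy _)) (Ne.symm (hy _))]
  have hw' : ∀ i, w⁻¹ (ι i) = ι (w₀⁻¹ i) := by
    intro i
    rw [Perm.inv_eq_iff_eq, hw]; simp
  have step : ∀ i, (e₀.viaEmbedding E * (d * w⁻¹)) (ι i) = ι (i + 1) := by
    intro i
    rw [Perm.mul_apply, Perm.mul_apply, hw', hd1, a1, he]; simp
  obtain ⟨c, k1, k2, k3⟩ := merge_all (d * w⁻¹) (ι 0) _ (univ.image ι) (e₀.viaEmbedding E) rfl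
    ((hW _).2 ⟨0, rfl⟩)
    (fun y => by
      rw [hW, hW]
      constructor
      · rintro ⟨i, hi⟩
        refine ⟨w₀ ((swap J1 J2 * swap J3 J4)⁻¹ i), ?_⟩
        apply (d * w⁻¹).injective
        rw [← hi, Perm.mul_apply, hw', hd1]; simp
      · rintro ⟨i, rfl⟩
        exact ⟨_, by rw [Perm.mul_apply, hw', hd1]⟩)
    (fun y hy => Perm.viaEmbedding_apply_of_notMem _ _ _ (by rw [hW] at hy; exact hy))
    (fun y hy => by
      by_cases h : ∃ i, ι i = y
      · obtain ⟨i, rfl⟩ := h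
        rw [a1] at hy
        obtain ⟨l, hl⟩ := hc i (fun e => hy (by rw [e]))
        have : ∀ l : ℕ, ((e₀.viaEmbedding E) ^ l) (ι 0) = ι ((e₀ ^ l) 0) := by
          intro l
          induction l with
          | zero => rfl
          | succ l ih => rw [pow_succ', pow_succ', Perm.mul_apply, ih, a1]; rfl
        rw [← hl, ← this]
        exact sameCycle_pow_right.2 SameCycle.rfl
      · exact absurd (Perm.viaEmbedding_apply_of_notMem _ _ _ h) hy)
    (fun y hy => by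
      obtain ⟨i, rfl⟩ := (hW _).1 hy
      clear hy
      induction i using Fin.induction with
      | zero => exact SameCycle.rfl
      | succ i ih => rw [← Fin.coeSucc_eq_succ, ← step, sameCycle_apply_right]; exact ih)
  have hu := isCycleOn_univ k2
  obtain ⟨d1, d2, d3⟩ := dbl_facts (hι.ne n5) (hι.ne n6) (hι.ne n7) (hι.ne n8) (hι.ne n9)
  have hsc : sign c = 1 := by
    have := sign_full k2 hm
    rw [hd] at this
    simpa [hs, sign_swap (hι.ne n5), sign_swap (hι.ne n10)] using this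
  have fx : ∀ J, e₀ J = J → 0 ≠ J → c (ι J) = ι J := by
    intro J h1 h2
    rw [k3 _ ((hW _).2 ⟨J, rfl⟩) (by rw [a1, h1]; exact hι.ne h2.symm), a1, h1]
  have pts : ∀ i : Fin (n + 1), ((c * (d * w⁻¹)) ^ (i : ℕ)) (ι 0) = ι i := by
    intro i
    induction i using Fin.induction with
    | zero => rfl
    | succ i ih =>
      rw [Fin.val_succ, pow_succ', Perm.mul_apply]
      rw [Fin.val_castSucc] at ih
      have h1 := step i.castSucc
      rw [Fin.coeSucc_eq_succ, Perm.mul_apply] at h1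
      rw [ih, Perm.mul_apply, k3 _ ((hW _).2 ⟨_, by rw [Perm.mul_apply, hw', hd1]⟩)
        (by rw [h1]; exact hι.ne (Fin.succ_ne_zero i)), h1]
  refine ⟨_, hu, pr_of hp (c := c) (d := d) (by simp [mul_assoc]) (odd_order_of k1 hsc)
    ((commute_swap (fx _ f1 n1) (fx _ f2 n2)).mul_right (commute_swap (fx _ f3 n3) (fx _ f4 n4)))
    d1 d2 fun H h1 h2 => ns_full hu (ι 0) h1 J1 k r t ht (not_dvd_of_odd hm h5 hk) ?_⟩
  rw [← j2, ← j4, ← j3, pts, pts, pts, pts]
  exact h2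

end Cfsg.Agent.ULT.AP
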