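import Mathlib
import Cfsg.Agent.Spec.Syl2
import Cfsg.Agent.FGS.Pron
import Cfsg.Agent.ULT.PMin

/-! Pronormality of subgroups of odd index: group theoretic criteria. -/

set_option autoImplicit false

namespace Cfsg.Agent.ULT
open Subgroup Cfsg.Agent.Core
open scoped Pointwise

variable {G : Type*} [Group G]

theorem LT.pron [Finite G] (h : LT 2 G) {H : Subgroup G} (hH : Odd H.index) : IsPronormal H := by
  obtain ⟨S, hS⟩ := FGS.exists_sylow_le_of_not_dvd_index (p := 2) (by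
    rw [← even_iff_two_dvd]; exact Nat.not_even_iff_odd.mpr hH)
  obtain ⟨W, _, _, ι, _, _, B, -, e⟩ := h.exists_U S
  refine Spec.pron_of_sylow S hS fun b hb => ?_
  rw [← e, normalizer_U] at hb
  exact mem_normalizer_fintype fun g hg => B_conj_mem (e ▸ hS) hb hg

theorem eq_one_of_odd {S : Subgroup G} (hS : IsPGroup 2 S) {x : G} (hx : x ∈ S)
    (h : Odd (orderOf x)) : x = 1 := by
  obtain ⟨k, hk⟩ := hS ⟨x, hx⟩
  have h1 : orderOf x ∣ 2 ^ k := orderOf_dvd_of_pow_eq_one (by simpa using congrArg Subtype.val hk)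
  exact orderOf_eq_one_iff.mp (Nat.eq_one_of_self_dvd_coprime h1 h)
  where Nat.eq_one_of_self_dvd_coprime {a k : ℕ} (h1 : a ∣ 2 ^ k) (h : Odd a) : a = 1 :=
    Nat.Coprime.eq_one_of_dvd (Nat.Coprime.pow_right k (Nat.coprime_two_right.mpr h)) h1

theorem odd_comm {R : Subgroup G} (hR : IsPGroup 2 R) {g s : G} (hg : Odd (orderOf g))
    (hn : g ∈ normalizer (R : Set G)) (hs : s ∈ R) (h : Commute (s * g * s⁻¹) g) :
    Commute s g := by
  have h1 : s * g * s⁻¹ * g⁻¹ ∈ R := by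
    have := R.mul_mem hs ((mem_normalizer_iff.mp hn _).mp (R.inv_mem hs))
    simpa [mul_assoc] using this
  have h2 : (s * g * s⁻¹ * g⁻¹) ^ orderOf g = 1 := by
    rw [h.inv_right.mul_pow, conj_pow, inv_pow, pow_orderOf_eq_one]; simp
  have := eq_one_of_odd hR h1 (hg.of_dvd_nat (orderOf_dvd_of_pow_eq_one h2))
  exact commutatorElement_eq_one_iff_commute.mp this

theorem selfnorm_quot [Finite G] (S : Sylow 2 G)
    (h : ∀ g ∈ normalizer ((S : Subgroup G) : Set G), Odd (orderOf g) → g ∈ center G)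
    {H : Subgroup (G ⧸ center G)} (hH : Odd H.index) : IsPronormal H := by
  obtain ⟨T, hT⟩ := FGS.exists_sylow_le_of_not_dvd_index (p := 2) (by
    rw [← even_iff_two_dvd]; exact Nat.not_even_iff_odd.mpr hH)
  refine Spec.pron_of_sylow T hT ((Spec.selfnorm_of_one
    (S.mapSurjective (QuotientGroup.mk'_surjective (center G))) ?_ T).trans
      (hT.trans le_normalizer))
  intro x hx
  obtain ⟨g, rfl⟩ := QuotientGroup.mk'_surjective _ x
  have h1 : g ∈ normalizer ((S : Subgroup G) : Set G) := mem_normalizer_fintype fun s hs => by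
    obtain ⟨t, ht, e⟩ := (mem_normalizer_iff.mp hx (QuotientGroup.mk' _ s)).mp ⟨s, hs, rfl⟩
    rw [← map_inv, ← map_mul, ← map_mul] at e
    obtain ⟨z, hz, e⟩ := (QuotientGroup.mk'_eq_mk' _).mp e
    obtain ⟨a, b, ha, hb, e2, hab, ⟨k, hk⟩, h3⟩ := FGS.exists_pPart 2 z
    have h4 : a ∈ center G := zpowers_le.mpr hz ha
    have h5 : b ∈ center G := zpowers_le.mpr hz hb
    have h6 : a ∈ S := FGS.mem_sylow_of_commute S hk fun y _ => mem_center_iff.mp h4 y
    have h7 : g * s * g⁻¹ = (t * a) * b := by rw [← e, e2, mul_assoc]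
    have h8 : t * a ∈ (S : Subgroup G) := S.1.mul_mem ht h6
    obtain ⟨m, hm⟩ := S.2 ⟨s, hs⟩
    obtain ⟨n, hn⟩ := S.2 ⟨_, h8⟩
    have hm' : s ^ 2 ^ m = 1 := by simpa using congrArg Subtype.val hm
    have hn' : (t * a) ^ 2 ^ n = 1 := by simpa using congrArg Subtype.val hn
    have h9 : b ^ 2 ^ (m + n) = 1 := by
      have := congrArg (· ^ 2 ^ (m + n)) h7
      simp only [conj_pow] at this
      rw [(show Commute (t * a) b from mem_center_iff.mp h5 _).mul_pow, pow_add, pow_mul, hm',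
        mul_comm (2 ^ m), pow_mul, hn'] at this
      simpa [mul_comm (2 ^ n), ← pow_add] using this.symm
    have : b = 1 := orderOf_eq_one_iff.mp (Nat.Coprime.eq_one_of_dvd
      (Nat.Coprime.pow_right _ h3) (orderOf_dvd_of_pow_eq_one h9))
    rw [h7, this, mul_one]; exact h8
  obtain ⟨a, b, ha, hb, e2, hab, ⟨k, hk⟩, h3⟩ := FGS.exists_pPart 2 g
  refine ⟨a, FGS.mem_sylow_of_mem_normalizer S hk (zpowers_le.mpr h1 ha), ?_⟩
  exact (QuotientGroup.mk'_eq_mk' _).mpr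
    ⟨b, h b (zpowers_le.mpr h1 hb) (Nat.coprime_two_right.mp h3), e2.symm⟩

theorem burn [Finite G] {S L : Subgroup G} (hS : IsSylowOf 2 S L)
    (h : ∀ n ∈ L, n ∈ normalizer (S : Set G) → ∀ s ∈ S, s * n = n * s) :
    ∃ K ≤ L, L ≤ normalizer (K : Set G) ∧ Odd (Nat.card K) ∧
      (∀ x ∈ L, Odd (orderOf x) → x ∈ K) ∧ ∀ x ∈ L, ∃ k ∈ K, ∃ s ∈ S, x = k * s := by
  have hP : normalizer ((hS.toSylow : Subgroup L) : Set L) ≤
      centralizer ((hS.toSylow : Subgroup L) : Set L) := fun n hn s hs => by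
    refine Subtype.ext (h n n.2 (mem_normalizer_fintype fun t ht => ?_) s hs)
    exact (mem_normalizer_iff.mp hn ⟨t, hS.le ht⟩).mp ht
  have h1 := MonoidHom.ker_transferSylow_isComplement' _ hP
  refine ⟨(MonoidHom.transferSylow _ hP).ker.map L.subtype, map_subtype_le _,
    le_normalizer_map_subtype_of_normal _ _, ?_, fun x hx ho => ⟨⟨x, hx⟩, ?_, rfl⟩, fun x hx => ?_⟩
  · rw [card_map_of_injective L.subtype_injective, ← Nat.not_even_iff_odd, even_iff_two_dvd]
    exact MonoidHom.not_dvd_card_ker_transferSylow _ hP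
  · refine Subtype.ext (eq_one_of_odd hS.toSylow.2 (Subtype.prop _) ?_)
    rw [orderOf_coe]
    exact ho.of_dvd_nat (by simpa using orderOf_map_dvd (MonoidHom.transferSylow _ hP) ⟨x, hx⟩)
  · obtain ⟨⟨k, s⟩, e⟩ := h1.2 ⟨x, hx⟩
    exact ⟨k.1, ⟨k.1, k.2, rfl⟩, s.1, s.2, (congrArg Subtype.val e).symm⟩

/-- a self-centralizing four-group -/
structure K4 (S : Subgroup G) (a b : G) : Prop where
  aa : a * a = 1
  bb : b * b = 1
  ab : a * b = b * a
  a1 : a ≠ 1
  b1 : b ≠ 1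
  ne : a ≠ b
  mem : ∀ x, x ∈ S ↔ x = 1 ∨ x = a ∨ x = b ∨ x = a * b
  cen : ∀ x, x * a = a * x → x * b = b * x → x ∈ S

variable {S : Subgroup G} {a b : G}

theorem K4.symm (h : K4 S a b) : K4 S b a :=
  ⟨h.bb, h.aa, h.ab.symm, h.b1, h.a1, h.ne.symm, fun x => by rw [h.mem, h.ab]; tauto,
    fun x h1 h2 => h.cen x h2 h1⟩

theorem K4.mul (h : K4 S a b) : K4 S a (a * b) := by
  have h1 : a * (a * b) = b := by rw [← mul_assoc, h.aa, one_mul]
  refine ⟨h.aa, by rw [mul_assoc, ← mul_assoc b, ← h.ab, mul_assoc, h.bb, mul_one, h.aa],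
    by rw [mul_assoc, h.ab], h.a1, fun e => h.ne ?_, fun e => h.b1 (by simpa using e),
    fun x => by rw [h.mem, h1]; tauto, fun x h2 h3 => h.cen x h2 ?_⟩
  · rw [← h1, e, mul_one]
  · rw [← mul_assoc, h2, mul_assoc, mul_assoc] at h3
    exact mul_left_cancel h3

theorem K4.exists (h : K4 S a b) {s : G} (hs : s ∈ S) (h1 : s ≠ 1) : ∃ t, K4 S s t := by
  rcases (h.mem s).mp hs with e | rfl | rfl | rfl
  exacts [absurd e h1, ⟨_, h⟩, ⟨_, h.symm⟩, ⟨_, h.mul.symm⟩]

theorem K4.am (h : K4 S a b) : a ∈ S := (h.mem a).mpr (by simp)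

theorem K4.comm (h : K4 S a b) {s t : G} (hs : s ∈ S) (ht : t ∈ S) : s * t = t * s := by
  have h1 : Commute a b := h.ab
  rcases (h.mem s).mp hs with rfl | rfl | rfl | rfl <;>
    rcases (h.mem t).mp ht with rfl | rfl | rfl | rfl <;>
    first | simp; done | exact h1 | exact h1.symm | skip
  exacts [(Commute.refl _).mul_right h1, h1.symm.mul_right (.refl _), (Commute.refl _).mul_left h1.symm,
    h1.mul_left (.refl _)]

theorem K4.conj {P : Sylow 2 G} (h : K4 (P : Subgroup G) a b) {n : G}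
    (hn : n ∈ normalizer ((P : Subgroup G) : Set G)) :
    n ∈ (P : Subgroup G) ∨ n * a * n⁻¹ = b ∨ n * a * n⁻¹ = a * b := by
  rcases (h.mem _).mp ((mem_normalizer_iff.mp hn a).mp h.am) with e | e | e | e
  · exact absurd (by simpa using e) h.a1
  · left
    have h1 : n * a = a * n := by rw [← mul_inv_eq_iff_eq_mul, e]
    rcases (h.mem _).mp ((mem_normalizer_iff.mp hn b).mp h.symm.am) with f | f | f | f
    · exact absurd (by simpa using f) h.b1
    · exact absurd (by simpa using f.trans e.symm) h.ne.symm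
    · exact h.cen n h1 (by rw [← mul_inv_eq_iff_eq_mul, f])
    · have h2 : n * n ∈ (P : Subgroup G) := h.cen _ (Commute.mul_left h1 h1) (by
        rw [mul_inv_eq_iff_eq_mul] at f
        calc n * n * b = n * a * b * n := by rw [mul_assoc, f]; group
          _ = a * (n * b) * n := by rw [h1]; group
          _ = b * (n * n) := by rw [f, ← mul_assoc, ← mul_assoc, h.aa]; group)
      obtain ⟨k, hk⟩ := P.2 ⟨_, h2⟩
      have h3 : n ^ 2 ^ (k + 1) = 1 := by
        rw [pow_succ', pow_mul, pow_two]; simpa using congrArg Subtype.val hk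
      obtain ⟨j, -, hj⟩ := (Nat.dvd_prime_pow Nat.prime_two).mp (orderOf_dvd_of_pow_eq_one h3)
      exact FGS.mem_sylow_of_mem_normalizer P hj hn
  · exact .inr (.inl e)
  · exact .inr (.inr e)

theorem K4.fix {P : Sylow 2 G} (h : K4 (P : Subgroup G) a b) {n : G}
    (hn : n ∈ normalizer ((P : Subgroup G) : Set G)) (e : n * a * n⁻¹ = a) :
    n ∈ (P : Subgroup G) := by
  rcases h.conj hn with f | f | f
  exacts [f, absurd (e.symm.trans f) h.ne, absurd (e.symm.trans f) h.mul.ne]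

theorem K4.norm_le {P : Sylow 2 G} (h : K4 (P : Subgroup G) a b) {L : Subgroup G}
    (hL : (P : Subgroup G) ≤ L) {m n : G} (hm : m ∈ normalizer ((P : Subgroup G) : Set G))
    (h1 : m ∈ L) (h2 : m ∉ (P : Subgroup G)) (hn : n ∈ normalizer ((P : Subgroup G) : Set G)) :
    n ∈ L := by
  have k1 : ∀ x ∈ L, x ∈ normalizer ((P : Subgroup G) : Set G) → n * a * n⁻¹ = x * a * x⁻¹ →
      n ∈ L := fun x hx hx' e => by
    have := hL (h.fix (mul_mem (inv_mem hx') hn) (by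
      rw [show x⁻¹ * n * a * (x⁻¹ * n)⁻¹ = x⁻¹ * (n * a * n⁻¹) * x by group, e]; group))
    simpa using L.mul_mem hx this
  have k2 : m * m ∉ (P : Subgroup G) := fun h3 => h2 (by
    obtain ⟨k, hk⟩ := P.2 ⟨_, h3⟩
    have h3 : m ^ 2 ^ (k + 1) = 1 := by
      rw [pow_succ', pow_mul, pow_two]; simpa using congrArg Subtype.val hk
    obtain ⟨j, -, hj⟩ := (Nat.dvd_prime_pow Nat.prime_two).mp (orderOf_dvd_of_pow_eq_one h3)
    exact FGS.mem_sylow_of_mem_normalizer P hj hm)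
  have k3 : m * a * m⁻¹ ≠ m * m * a * (m * m)⁻¹ := fun e => h2 (h.fix hm (by
    rw [show m * a * m⁻¹ = m⁻¹ * (m * m * a * (m * m)⁻¹) * m by group, ← e]; group))
  have k4 := k1 m h1 hm
  have k5 := k1 _ (L.mul_mem h1 h1) (mul_mem hm hm)
  rcases h.conj hn with e | e | e
  · exact hL e
  all_goals
    rcases (h.conj hm).resolve_left h2 with f | f <;>
      rcases (h.conj (mul_mem hm hm)).resolve_left k2 with g | g <;>
      first | exact k4 (e.trans f.symm) | exact k5 (e.trans g.symm) | exact absurd (f.trans g.symm) k3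

theorem inv_of_fpf [Finite G] {K : Subgroup G} (ha : a ∈ normalizer (K : Set G)) (h1 : a * a = 1)
    (h : ∀ x ∈ K, x * a = a * x → x = 1) {x : G} (hx : x ∈ K) : a * x * a⁻¹ = x⁻¹ := by
  have := MonoidHom.FixedPointFree.coe_eq_inv_of_involutive
    (φ := (K.normalizerMonoidHom ⟨a, ha⟩).toMonoidHom) (fun y e => Subtype.ext (h y y.2 (by
      have : a * y * a⁻¹ = y := congrArg Subtype.val e
      rw [mul_inv_eq_iff_eq_mul] at this; exact this.symm))) fun y => Subtype.ext (by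
        change a * (a * y * a⁻¹) * a⁻¹ = y
        rw [show a * (a * y * a⁻¹) * a⁻¹ = (a * a) * y * (a * a)⁻¹ by group, h1]; simp)
  exact congrArg Subtype.val (congrFun this ⟨x, hx⟩)

theorem K4.exists_cen [Finite G] (h : K4 S a b) {K : Subgroup G} (hK : S ≤ normalizer (K : Set G))
    (h0 : K ≠ ⊥) : ∃ s t, K4 S s t ∧ K ⊓ centralizer {s} ≠ ⊥ := by
  by_contra! hc
  have k1 : ∀ s t, K4 S s t → ∀ x ∈ K, x * s = s * x → x = 1 := fun s t h x hx e =>
    (eq_bot_iff_forall _).mp (hc s t h) x ⟨hx, mem_centralizer_singleton_iff.mpr e⟩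
  refine h0 ((eq_bot_iff_forall _).mpr fun x hx => k1 _ _ h.mul.symm x hx ?_)
  have h1 := inv_of_fpf (hK h.am) h.aa (k1 _ _ h) (K.inv_mem hx)
  rw [← inv_of_fpf (hK h.symm.am) h.bb (k1 _ _ h.symm) hx] at h1
  rw [inv_of_fpf (hK h.symm.am) h.bb (k1 _ _ h.symm) hx, inv_inv] at h1
  rw [← inv_of_fpf (hK h.symm.am) h.bb (k1 _ _ h.symm) hx] at h1
  rw [eq_comm, ← mul_inv_eq_iff_eq_mul]
  exact Eq.trans (by group) h1

theorem K4.pron [Finite G] {P : Sylow 2 G} (h : K4 (P : Subgroup G) a b)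
    (hZ : ∀ z : G, z ≠ 1 → Odd (orderOf z) → ∀ x y, Commute z x → Commute z y → Commute x y)
    {H : Subgroup G} (hH : (P : Subgroup G) ≤ H) : IsPronormal H := by
  intro g
  change ∃ x ∈ H ⊔ MulAut.conj g • H, MulAut.conj g • H = MulAut.conj x • H
  obtain ⟨L, hL⟩ : ∃ L, L = H ⊔ MulAut.conj g • H := ⟨_, rfl⟩
  have hHL : H ≤ L := hL ▸ le_sup_left
  have hgL : MulAut.conj g • H ≤ L := hL ▸ le_sup_right
  rw [← hL]
  have h1 := isSylowOf_sylow_of_le P (hH.trans hHL)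
  have h2 := isSylowOf_sylow_of_le (g • P) (K := L)
    (le_trans (by rw [Sylow.coe_subgroup_smul]; exact H2.conj_smul_mono g hH) hgL)
  obtain ⟨x, hx, e⟩ := h1.exists_conj_eq h2
  rw [Sylow.coe_subgroup_smul] at e
  have hn : x⁻¹ * g ∈ normalizer ((P : Subgroup G) : Set G) := by
    rw [H2.mem_normalizer_iff_conj_smul, map_mul, mul_smul, ← e, map_inv, inv_smul_smul]
  obtain ⟨n, rfl⟩ : ∃ n, g = x * n := ⟨x⁻¹ * g, by simp⟩
  rw [inv_mul_cancel_left] at hn
  by_cases hnL : n ∈ L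
  · exact ⟨_, L.mul_mem hx hnL, rfl⟩
  have hN : ∀ m ∈ L, m ∈ normalizer ((P : Subgroup G) : Set G) → m ∈ (P : Subgroup G) :=
    fun m h3 h4 => by_contra fun h5 => hnL (h.norm_le h1.le h4 h3 h5 hn)
  obtain ⟨K, hKL, hKn, hKo, hK1, hK2⟩ := burn h1 fun m h3 h4 s hs => h.comm hs (hN m h3 h4)
  have hKP : ∀ k ∈ K, Odd (orderOf k) := fun k hk =>
    hKo.of_dvd_nat (K.orderOf_dvd_natCard hk)
  by_cases h0 : H ⊓ K = ⊥
  · obtain rfl : (P : Subgroup G) = H := le_antisymm hH fun y hy => by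
      obtain ⟨k, hk, s, hs, rfl⟩ := hK2 y (hHL hy)
      rw [(eq_bot_iff_forall _).mp h0 k ⟨by simpa using H.mul_mem hy (H.inv_mem (hH hs)), hk⟩,
        one_mul]
      exact hs
    exact ⟨x, hx, e.symm⟩
  exfalso
  have h3 : (P : Subgroup G) ≤ normalizer ((H ⊓ K : Subgroup G) : Set G) := fun s hs =>
    mem_normalizer_fintype fun y hy => ⟨H.mul_mem (H.mul_mem (hH hs) hy.1) (H.inv_mem (hH hs)),
      (mem_normalizer_iff.mp (hKn (h1.le hs)) y).mp hy.2⟩
  obtain ⟨s, t, hst, h4⟩ := h.exists_cen h3 h0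
  have h5 : (P : Subgroup G) ≤ normalizer ((H ⊓ K ⊓ centralizer {s} : Subgroup G) : Set G) :=
    fun u hu => mem_normalizer_fintype fun y hy => ⟨(mem_normalizer_iff.mp (h3 hu) y).mp hy.1, by
      have e1 : Commute u s := h.comm hu hst.am
      have e2 : Commute y s := mem_centralizer_singleton_iff.mp hy.2
      exact mem_centralizer_singleton_iff.mpr ((e1.mul_left e2).mul_left e1.inv_left)⟩
  have cop : ∀ A ≤ K, (Nat.card (P : Subgroup G)).Coprime (Nat.card A) := fun A hA => by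
    obtain ⟨k, hk⟩ := P.2.exists_card_eq
    rw [hk]
    exact (Nat.coprime_two_left.mpr (hKo.of_dvd_nat (card_dvd_of_le hA))).pow_left _
  have sol : Group.IsSolvable (P : Subgroup G) := by
    have := P.2.isNilpotent; infer_instance
  obtain ⟨r, hr, hr'⟩ := Nat.exists_prime_and_dvd (mt card_eq_one.mp h4)
  have := Fact.mk hr
  obtain ⟨R, hR, hPR⟩ := exists_invariant_isSylowOf _ _ h5
    (cop _ (inf_le_left.trans inf_le_right)) (.inl sol) r
  obtain ⟨Q, hQ, hRQ, hPQ⟩ := exists_invariant_isSylowOf_ge _ _ (h1.le.trans hKn) (cop _ le_rfl)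
    (.inl sol) R (hR.le.trans (inf_le_left.trans inf_le_right)) hR.isPGroup hPR
  obtain ⟨Q', hQ', hRQ', hPQ'⟩ := exists_invariant_isSylowOf_ge _ _ (h1.le.trans hKn)
    (cop _ le_rfl) (.inl sol) (MulAut.conj n • R) (by
      rintro _ ⟨y, hy, rfl⟩
      refine hK1 _ ?_ ?_
      · have := L.mul_mem (L.mul_mem (L.inv_mem hx) (hgL ⟨y, (hR.le hy).1.1, rfl⟩)) hx
        simpa [mul_assoc] using this
      · have := hKP y (hR.le hy).1.2
        rwa [← (MulAut.conj n).orderOf_eq] at this) (hR.isPGroup.map _) (fun u hu =>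
      mem_normalizer_fintype (by
        rintro _ ⟨y, hy, rfl⟩
        refine ⟨_, (mem_normalizer_iff.mp (hPR ((mem_normalizer_iff.mp (inv_mem hn) u).mp hu))
          y).mp hy, ?_⟩
        simp [mul_assoc]))
  obtain ⟨c, hc, e1⟩ := hQ.exists_centralizer_conj_eq _ _ (h1.le.trans hKn) (cop _ le_rfl)
    (.inl sol) hQ' hPQ hPQ'
  rw [eq_one_of_odd P.2 (h.cen c (hc.2 _ h.am).symm (hc.2 _ h.symm.am).symm) (hKP c hc.1),
    map_one, one_smul] at e1
  subst e1
  obtain ⟨⟨y, hy⟩, hy1⟩ := ne_bot_iff_exists_ne_one.mp (hR.ne_bot hr')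
  have hy2 : y ≠ 1 := fun e => hy1 (Subtype.ext e)
  have : Nontrivial Q := ⟨⟨⟨y, hRQ hy⟩, 1, fun e => hy2 (congrArg Subtype.val e)⟩⟩
  have := hQ.isPGroup.center_nontrivial
  obtain ⟨⟨z, hz⟩, hz1⟩ := exists_ne (1 : center Q)
  have h6 : n * y * n⁻¹ ∈ Q := hRQ' ⟨y, hy, rfl⟩
  have h7 := hZ z (fun e => hz1 (Subtype.ext (Subtype.ext e))) (hKP _ (hQ.le z.2)) y (n * y * n⁻¹)
    (congrArg Subtype.val (mem_center_iff.mp hz ⟨y, hRQ hy⟩)).symm
    (congrArg Subtype.val (mem_center_iff.mp hz ⟨_, h6⟩)).symm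
  have h8 : Commute y s := mem_centralizer_singleton_iff.mp (hR.le hy).2
  have h9 := (hZ y hy2 (hKP _ (hR.le hy).1.2) _ _ h7 h8).eq
  have h10 : n * y * n⁻¹ * (n * s * n⁻¹) = n * s * n⁻¹ * (n * y * n⁻¹) := by
    simp [mul_assoc, ← mul_assoc y, h8.eq]
  refine hy2 ?_
  have h11 : n * y * n⁻¹ ∈ (P : Subgroup G) := by
    rcases hst.conj hn with f | f | f
    · exact absurd (h1.le f) hnL
    · exact hst.cen _ h9 (f ▸ h10)
    · exact hst.mul.cen _ h9 (f ▸ h10)
  simpa using eq_one_of_odd P.2 h11 (hKP _ (hQ.le h6))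

end Cfsg.Agent.ULT
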