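import Mathlib
import Cfsg.Agent.ULT.PronA
import Cfsg.Agent.Classical.Congr
import Cfsg.Agent.Herm.Field

/-! Normalizers of Sylow 2-subgroups of linear and unitary groups of degree `2 ^ w`. -/

set_option autoImplicit false
set_option linter.unusedSectionVars false

namespace Cfsg.Agent.ULT
open Subgroup Cfsg.Agent.Core Matrix
open scoped Pointwise MatrixGroups

variable {F : Type*} [Field F] {b : Prop} {σ : F →+* F} {ι κ : Type*} [Fintype ι] [DecidableEq ι]
  [Fintype κ] [DecidableEq κ]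

variable (b σ ι) in
/-- the general linear (`b` false) or unitary (`b` true) group -/
def UB : Subgroup (GL ι F) where
  carrier := {g | b → g.1ᵀ * g.1.map σ = 1}
  one_mem' _ := by simp
  mul_mem' {x y} hx hy h := by
    rw [Units.val_mul, transpose_mul, Matrix.map_mul, mul_assoc, ← mul_assoc x.1ᵀ, hx h, one_mul,
      hy h]
  inv_mem' {x} hx h := by
    have h1 : (x⁻¹).1ᵀ * (x.1ᵀ * x.1.map σ) * (x⁻¹).1.map σ = 1 := by
      rw [← mul_assoc, ← transpose_mul, mul_assoc, ← Matrix.map_mul]; simp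
    rwa [hx h, mul_one] at h1

/-- scalar matrices -/
def Sc (X : Matrix ι ι F) : Prop := ∃ c : F, X = c • 1

theorem sc_iff {g : GL ι F} : Sc g.1 ↔ g ∈ center (GL ι F) := by
  rw [GeneralLinearGroup.mem_center_iff_val_mem_range_scalar]
  simp [Sc, smul_one_eq_diagonal, eq_comm]

theorem Sc.comm {X : Matrix ι ι F} (h : Sc X) (Y : Matrix ι ι F) : X * Y = Y * X := by
  obtain ⟨c, rfl⟩ := h; simp

theorem exists_not_sc [Nontrivial ι] : ∃ X : Matrix ι ι F, ¬ Sc X := by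
  obtain ⟨i, j, h⟩ := exists_pair_ne ι
  refine ⟨single i j 1, fun ⟨c, e⟩ => ?_⟩
  simpa [h] using congrFun (congrFun e i) j

/-- central modulo scalars -/
def PC (R : Subgroup (GL ι F)) (u : GL ι F) : Prop :=
  ¬ Sc u.1 ∧ ∀ s ∈ R, ∃ c : F, s.1 * u.1 = c • (u.1 * s.1)

theorem exists_PC [Finite F] {R : Subgroup (GL ι F)} (h : IsPGroup 2 R) {s : GL ι F} (hs : s ∈ R)
    (h1 : ¬ Sc s.1) : ∃ u ∈ R, PC R u := by
  have h2 := h.map (QuotientGroup.mk' (center (GL ι F)))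
  have : Nontrivial (R.map (QuotientGroup.mk' (center (GL ι F)))) :=
    ⟨⟨⟨_, s, hs, rfl⟩, 1, fun e => h1 (sc_iff.mpr ((QuotientGroup.eq_one_iff _).mp
      (congrArg Subtype.val e)))⟩⟩
  have := h2.center_nontrivial
  obtain ⟨⟨⟨_, u, hu, rfl⟩, hz⟩, h3⟩ :=
    exists_ne (1 : center (R.map (QuotientGroup.mk' (center (GL ι F)))))
  refine ⟨u, hu, fun e => h3 (Subtype.ext (Subtype.ext
    ((QuotientGroup.eq_one_iff _).mpr (sc_iff.mp e)))), fun t ht => ?_⟩
  have h4 := congrArg Subtype.val (mem_center_iff.mp hz ⟨_, t, ht, rfl⟩)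
  obtain ⟨z, hz, e⟩ := (QuotientGroup.mk'_eq_mk' _).mp
    (show QuotientGroup.mk' _ (u * t) = QuotientGroup.mk' _ (t * u) from h4.symm)
  obtain ⟨c, hc⟩ := sc_iff.mpr hz
  exact ⟨c, by rw [← Units.val_mul, ← e]; simp [hc]⟩

theorem PC.conj {R : Subgroup (GL ι F)} {u g : GL ι F} (h : PC R u)
    (hg : g ∈ normalizer (R : Set (GL ι F))) : PC R (g * u * g⁻¹) := by
  refine ⟨fun e => h.1 (sc_iff.mpr ?_), fun s hs => ?_⟩
  · simpa [mul_assoc] using (inferInstance : (center (GL ι F)).Normal).conj_mem _ (sc_iff.mp e) g⁻¹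
  · obtain ⟨c, e⟩ := h.2 _ ((mem_normalizer_iff.mp (inv_mem hg) s).mp hs)
    refine ⟨c, ?_⟩
    have := congrArg (fun X => g.1 * X * (g⁻¹).1) e
    simpa [mul_assoc] using this

theorem odd_sign [Nonempty ι] {g u : GL ι F} (hg : Odd (orderOf g)) {c : F} (hc : c * c = 1)
    (h : g.1 * u.1 = c • (u.1 * g.1)) : g * u = u * g := by
  have h1 : ∀ n : ℕ, g.1 ^ n * u.1 = c ^ n • (u.1 * g.1 ^ n) := fun n => by
    induction n with
    | zero => simp
    | succ n ih => rw [pow_succ', mul_assoc, ih, mul_smul_comm, ← mul_assoc, h, smul_mul_assoc,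
        smul_smul, ← pow_succ, mul_assoc]
  have h2 := h1 (orderOf g)
  obtain ⟨k, hk⟩ := hg
  rw [← Units.val_pow_eq_pow_val, pow_orderOf_eq_one, hk, pow_succ, pow_mul, pow_two, hc] at h2
  simp only [Units.val_one, one_mul, one_pow, mul_one] at h2
  refine Units.ext ?_
  rw [Units.val_mul, h, ← smul_mul_assoc, ← h2, Units.val_mul]

/-- block diagonal matrices -/
def bM : Matrix κ κ F × Matrix κ κ F →* Matrix (κ ⊕ κ) (κ ⊕ κ) F where
  toFun x := fromBlocks x.1 0 0 x.2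
  map_one' := fromBlocks_one
  map_mul' x y := by simp [fromBlocks_multiply]

/-- invertible block diagonal matrices -/
def blk : GL κ F × GL κ F →* GL (κ ⊕ κ) F :=
  (Units.map bM).comp MulEquiv.prodUnits.symm.toMonoidHom

@[simp] theorem blk_val (a d : GL κ F) : (blk (a, d)).1 = fromBlocks a.1 0 0 d.1 := rfl

theorem blk_inj : Function.Injective (blk : GL κ F × GL κ F → _) := fun ⟨a, d⟩ ⟨a', d'⟩ e => by
  have := congrArg Units.val e
  simp only [blk_val, fromBlocks_inj] at this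
  exact Prod.ext (Units.ext this.1) (Units.ext this.2.2.2)

variable (κ F) in
/-- interchanging the blocks -/
def sw : GL (κ ⊕ κ) F :=
  ⟨fromBlocks 0 1 (-1) 0, fromBlocks 0 (-1) 1 0, by simp [fromBlocks_multiply],
    by simp [fromBlocks_multiply]⟩

theorem sw_val : (sw F κ).1 = fromBlocks 0 1 (-1) 0 := rfl

theorem sw_blk (a d : GL κ F) : sw F κ * blk (a, d) = blk (d, a) * sw F κ :=
  Units.ext (by simp [sw_val, fromBlocks_multiply])

theorem sw_sq : sw F κ * sw F κ = -1 :=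
  Units.ext (by simp [sw_val, fromBlocks_multiply, ← fromBlocks_one, fromBlocks_neg])

variable (κ F) in
/-- the involution defining the blocks -/
def tt : GL (κ ⊕ κ) F := blk ((-1 : GL κ F), (1 : GL κ F))

theorem tt_val : (tt F κ).1 = fromBlocks (-1) 0 0 1 := rfl

theorem isP_zpowers {G : Type*} [Group G] {x : G} (k : ℕ) (h : x ^ 2 ^ k = 1) :
    IsPGroup 2 (zpowers x) := by
  obtain ⟨j, -, hj⟩ := (Nat.dvd_prime_pow Nat.prime_two).mp (orderOf_dvd_of_pow_eq_one h)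
  exact FGS.isPGroup_zpowers hj

theorem det_sw : (sw F κ).1.det = 1 := by
  rw [show (sw F κ).1 = fromBlocks 1 1 0 1 * fromBlocks 1 0 (-1) 1 * fromBlocks 1 1 0 1 by
    simp [sw_val, fromBlocks_multiply]]
  simp

theorem blk_mem {a d : GL κ F} : blk (a, d) ∈ UB b σ (κ ⊕ κ) ↔ a ∈ UB b σ κ ∧ d ∈ UB b σ κ := by
  change (b → _) ↔ (b → _) ∧ (b → _)
  simp only [blk_val, fromBlocks_transpose, fromBlocks_map, transpose_zero, map_zero,
    Matrix.map_zero, fromBlocks_multiply, ← fromBlocks_one, fromBlocks_inj]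
  simp [forall_and]

theorem sw_mem : sw F κ ∈ UB b σ (κ ⊕ κ) := fun _ => by
  simp [sw_val, fromBlocks_transpose, fromBlocks_map, fromBlocks_multiply, Matrix.map_neg]

theorem zero_of_neg (h2 : (2 : F) ≠ 0) {B : Matrix κ κ F} (h : -B = B) : B = 0 := by
  have : (2 : F) • B = 0 := by rw [two_smul]; nth_rewrite 1 [← h]; simp
  exact (smul_eq_zero.mp this).resolve_left h2

theorem exists_blk (h2 : (2 : F) ≠ 0) {g : GL (κ ⊕ κ) F} (h : g * tt F κ = tt F κ * g) :
    ∃ a d, g = blk (a, d) := by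
  have k : ∀ g : GL (κ ⊕ κ) F, g * tt F κ = tt F κ * g →
      ∃ A D, g.1 = fromBlocks A 0 0 D := fun g h => by
    have := congrArg Units.val h
    rw [Units.val_mul, Units.val_mul, ← fromBlocks_toBlocks g.1] at this
    simp only [tt_val, fromBlocks_multiply, fromBlocks_inj, mul_zero, zero_mul, add_zero,
      zero_add, mul_neg, neg_mul, mul_one, one_mul, true_and, and_true] at this
    exact ⟨_, _, by rw [← fromBlocks_toBlocks g.1, zero_of_neg h2 this.1.symm,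
      zero_of_neg h2 this.2]⟩
  obtain ⟨A, D, e⟩ := k g h
  obtain ⟨A', D', e'⟩ := k g⁻¹ (Commute.inv_left h)
  have h1 := g.mul_inv
  have h3 := g.inv_mul
  rw [e, e', fromBlocks_multiply, ← fromBlocks_one, fromBlocks_inj] at h1 h3
  simp only [mul_zero, zero_mul, add_zero, zero_add] at h1 h3
  exact ⟨⟨A, A', h1.1, h3.1⟩, ⟨D, D', h1.2.2.2, h3.2.2.2⟩, Units.ext e⟩

variable (b σ) in
/-- a Sylow subgroup with the properties used in the induction -/
structure Gd (T : Subgroup (GL ι F)) : Prop where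
  syl : IsSylowOf 2 T (UB b σ ι)
  cen : ∀ X : Matrix ι ι F, (∀ s ∈ T, s.1.det = 1 → s.1 * X = X * s.1) → Sc X
  nrm : ∀ g ∈ normalizer (T : Set (GL ι F)), Odd (orderOf g) → Sc g.1

theorem Gd.neg {T : Subgroup (GL ι F)} (h : Gd b σ T) : -1 ∈ T := by
  refine zpowers_le.mp (h.syl.le_of_le_normalizer' (isP_zpowers 1 (by simp)) (zpowers_le.mpr ?_)
    (zpowers_le.mpr (centralizer_le_normalizer _ fun x _ => by simp)))
  intro _; simp [Matrix.map_neg]

section
variable {T : Subgroup (GL κ F)} {R : Subgroup (GL (κ ⊕ κ) F)} (h2 : (2 : F) ≠ 0) (hT : Gd b σ T)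
  (hκ : Even (Fintype.card κ)) [Nontrivial κ]
  (h3 : ∀ a ∈ T, ∀ d ∈ T, a.1.det * d.1.det = 1 → blk (a, d) ∈ R) (h4 : sw F κ ∈ R)
include h2 hT hκ h3 h4

theorem neg_mem_R : tt F κ ∈ R := h3 _ hT.neg _ T.one_mem (by simp [det_neg, hκ.neg_one_pow])

theorem step_cen (X : Matrix (κ ⊕ κ) (κ ⊕ κ) F) (h : ∀ s ∈ R, s.1.det = 1 → s.1 * X = X * s.1) :
    Sc X := by
  rw [← fromBlocks_toBlocks X] at h ⊢
  generalize X.toBlocks₁₁ = A, X.toBlocks₁₂ = B, X.toBlocks₂₁ = C, X.toBlocks₂₂ = D at h ⊢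
  have k1 := h _ (neg_mem_R h2 hT hκ h3 h4) (by simp [tt_val, det_neg, hκ.neg_one_pow])
  simp [tt_val, fromBlocks_multiply] at k1
  obtain rfl := zero_of_neg h2 k1.1
  obtain rfl := zero_of_neg h2 k1.2.symm
  obtain ⟨c, rfl⟩ := hT.cen A fun s hs e => by
    simpa [fromBlocks_multiply] using h _ (h3 _ hs _ T.one_mem (by simp [e])) (by simp [e])
  have k2 := h _ h4 det_sw
  simp [sw_val, fromBlocks_multiply] at k2
  exact ⟨c, by rw [k2.1, ← fromBlocks_one, fromBlocks_smul]; simp⟩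

theorem step_PC {u : GL (κ ⊕ κ) F} (h : PC R u) : ∃ c : F, u.1 = c • (tt F κ).1 := by
  obtain ⟨c, k1⟩ := h.2 _ (neg_mem_R h2 hT hκ h3 h4)
  by_cases hc : c = 1
  · obtain ⟨a, d, rfl⟩ := exists_blk h2 (g := u) (Units.ext (by simpa [hc] using k1.symm))
    have k : ∀ (x : GL κ F) (e : F), x.1 = e • x.1 → e = 1 := fun x e h => by
      have := congrArg (· * (x⁻¹).1) h
      simp only [Units.mul_inv, smul_mul_assoc] at this
      obtain ⟨i⟩ := (inferInstance : Nonempty κ)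
      simpa using (congrFun (congrFun this i) i).symm
    obtain ⟨x, hx⟩ := hT.cen a.1 fun s hs e => by
      obtain ⟨e, k2⟩ := h.2 _ (h3 _ hs _ T.one_mem (by simp [e]))
      simp [fromBlocks_multiply, fromBlocks_smul] at k2
      simpa [k _ _ k2.2] using k2.1
    obtain ⟨e, k2⟩ := h.2 _ h4
    simp only [sw_val, blk_val, fromBlocks_multiply, fromBlocks_smul, fromBlocks_inj, mul_zero,
      zero_mul, add_zero, zero_add, mul_neg, neg_mul, mul_one, one_mul, smul_zero, true_and,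
      and_true, smul_neg, neg_inj, neg_zero] at k2
    have k3 := k a (e * e) (by rw [mul_smul, ← k2.1, ← k2.2])
    rcases mul_self_eq_one_iff.mp k3 with rfl | rfl
    · refine absurd ⟨x, ?_⟩ h.1
      rw [blk_val, k2.1, hx, ← fromBlocks_one, fromBlocks_smul]; simp
    · refine ⟨-x, ?_⟩
      rw [blk_val, k2.1, hx, tt_val, fromBlocks_smul]; simp
  exfalso
  have k2 := u.mul_inv
  have k3 := h.2
  rw [← fromBlocks_toBlocks u.1] at k1 k2 k3
  rw [← fromBlocks_toBlocks u⁻¹.1] at k2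
  generalize u.1.toBlocks₁₁ = A, u.1.toBlocks₁₂ = B, u.1.toBlocks₂₁ = C, u.1.toBlocks₂₂ = D
    at k1 k2 k3
  simp only [tt_val, fromBlocks_multiply, fromBlocks_smul, fromBlocks_inj, mul_zero,
    zero_mul, add_zero, zero_add, mul_neg, neg_mul, mul_one, one_mul, smul_neg, neg_inj] at k1
  obtain rfl : A = 0 := by
    have : (c - 1) • A = 0 := by rw [sub_smul, ← k1.1]; simp
    exact (smul_eq_zero.mp this).resolve_left (sub_ne_zero.mpr hc)
  rw [fromBlocks_multiply, ← fromBlocks_one, fromBlocks_inj, zero_mul, zero_add] at k2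
  obtain ⟨X, hX⟩ := exists_not_sc (F := F) (ι := κ)
  refine hX (hT.cen X fun s hs e => Sc.comm ?_ _)
  obtain ⟨e, k4⟩ := k3 _ (h3 _ hs _ T.one_mem (by simp [e]))
  simp only [blk_val, fromBlocks_multiply, fromBlocks_smul, fromBlocks_inj, mul_zero,
    zero_mul, add_zero, zero_add, Units.val_one, mul_one] at k4
  exact ⟨e, by rw [← k2.1, ← smul_mul_assoc, ← k4.2.1, mul_assoc, k2.1, mul_one]⟩

theorem step_nrm [Finite F] (h5 : IsPGroup 2 R) (h6 : R ≤ UB b σ (κ ⊕ κ)) {g : GL (κ ⊕ κ) F}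
    (hg : g ∈ normalizer (R : Set (GL (κ ⊕ κ) F))) (ho : Odd (orderOf g)) : Sc g.1 := by
  obtain ⟨i⟩ := (inferInstance : Nonempty κ)
  obtain ⟨u, -, hu⟩ := exists_PC h5 h4 fun ⟨c, e⟩ => by
    simpa [sw_val] using congrFun (congrFun e (.inl i)) (.inr i)
  obtain ⟨c, hc⟩ := step_PC h2 hT hκ h3 h4 hu
  obtain ⟨d, hd⟩ := step_PC h2 hT hκ h3 h4 (hu.conj hg)
  have c0 : c ≠ 0 := by rintro rfl; exact hu.1 ⟨0, by rw [hc]; simp⟩
  have k1 : g.1 * (tt F κ).1 = (c⁻¹ * d) • ((tt F κ).1 * g.1) := by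
    rw [mul_smul, ← smul_mul_assoc d, ← hd, eq_inv_smul_iff₀ c0]
    simp [hc]
  have k0 : (tt F κ).1 * (tt F κ).1 = 1 := by simp [tt_val, fromBlocks_multiply]
  have k2 : c⁻¹ * d * (c⁻¹ * d) = 1 := by
    have : g.1 = (c⁻¹ * d * (c⁻¹ * d)) • g.1 := by
      calc g.1 = g.1 * (tt F κ).1 * (tt F κ).1 := by rw [mul_assoc, k0, mul_one]
        _ = _ := by rw [k1, smul_mul_assoc, mul_assoc _ g.1, k1, mul_smul_comm, smul_smul,
          ← mul_assoc (tt F κ).1, k0, one_mul]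
    have := congrArg (· * (g⁻¹).1) this
    simp only [Units.mul_inv, smul_mul_assoc] at this
    simpa using (congrFun (congrFun this (.inl i)) (.inl i)).symm
  obtain ⟨x, y, rfl⟩ := exists_blk h2 (odd_sign ho k2 k1)
  rw [orderOf_injective _ blk_inj] at ho
  have k3 : ∀ f : GL κ F × GL κ F →* GL κ F, (∀ z, blk z ∈ UB b σ (κ ⊕ κ) → f z ∈ UB b σ κ) →
      (∀ a ∈ T, ∃ z, blk z ∈ R ∧ f z = a) → Sc (f (x, y)).1 := fun f hf hf' => by
    have e := hT.syl.eq_of_le ((h5.comap_of_injective _ blk_inj).map f)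
      (by rintro _ ⟨z, hz, rfl⟩; exact hf z (h6 hz)) hf'
    refine hT.nrm _ (mem_normalizer_fintype fun s hs => ?_) (ho.of_dvd_nat (orderOf_map_dvd f _))
    rw [e] at hs ⊢
    obtain ⟨z, hz, rfl⟩ := hs
    refine ⟨(x, y) * z * (x, y)⁻¹, ?_, by simp only [map_mul, map_inv]⟩
    change blk _ ∈ R
    simpa only [map_mul, map_inv] using (mem_normalizer_iff.mp hg _).mp hz
  have hx : Sc x.1 := k3 (.fst _ _) (fun z hz => (blk_mem.mp hz).1) fun a ha =>
    ⟨(a, a⁻¹), h3 _ ha _ (T.inv_mem ha) (by rw [← det_mul]; simp), rfl⟩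
  have hy : Sc y.1 := k3 (.snd _ _) (fun z hz => (blk_mem.mp hz).2) fun a ha =>
    ⟨(a⁻¹, a), h3 _ (T.inv_mem ha) _ ha (by rw [← det_mul]; simp), rfl⟩
  have k4 := odd_comm h5 (by rwa [orderOf_injective _ blk_inj]) hg h4 (by
    rw [sw_blk, mul_inv_cancel_right]
    exact Commute.map (Prod.ext (Units.ext (hy.comm _)) (Units.ext (hx.comm _))) _)
  rw [Commute, SemiconjBy, sw_blk, mul_left_inj] at k4
  obtain rfl : y = x := congrArg Prod.fst (blk_inj k4)
  obtain ⟨e, he⟩ := hy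
  exact ⟨e, by rw [blk_val, he, ← fromBlocks_one, fromBlocks_smul]; simp⟩

end

theorem exists_wr [Finite F] {T : Subgroup (GL κ F)} (hT : IsSylowOf 2 T (UB b σ κ)) :
    ∃ P ≤ UB b σ (κ ⊕ κ), IsPGroup 2 P ∧ (∀ a ∈ T, ∀ d ∈ T, blk (a, d) ∈ P) ∧ sw F κ ∈ P := by
  refine ⟨zpowers (sw F κ) ⊔ (T.prod T).map blk, sup_le (zpowers_le.mpr sw_mem) ?_, ?_,
    fun a ha d hd => mem_sup_right ⟨_, ⟨ha, hd⟩, rfl⟩, mem_sup_left (mem_zpowers _)⟩
  · rintro _ ⟨⟨a, d⟩, h, rfl⟩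
    exact blk_mem.mpr ⟨hT.le h.1, hT.le h.2⟩
  · refine (isP_zpowers 2 ?_).to_sup_of_normal_right' (IsPGroup.map ?_ _)
      (zpowers_le.mpr (mem_normalizer_fintype ?_))
    · rw [show 2 ^ 2 = 2 * 2 by rfl, pow_mul, pow_two (sw F κ), sw_sq]; simp
    · rintro ⟨⟨a, d⟩, h⟩
      obtain ⟨k, hk⟩ := hT.isPGroup ⟨a, h.1⟩
      obtain ⟨l, hl⟩ := hT.isPGroup ⟨d, h.2⟩
      have hk' : a ^ 2 ^ k = 1 := congrArg Subtype.val hk
      have hl' : d ^ 2 ^ l = 1 := congrArg Subtype.val hl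
      refine ⟨k + l, Subtype.ext (Prod.ext ?_ ?_)⟩
      · change a ^ 2 ^ (k + l) = 1
        rw [pow_add, pow_mul, hk', one_pow]
      · change d ^ 2 ^ (k + l) = 1
        rw [pow_add, mul_comm, pow_mul, hl', one_pow]
    · rintro _ ⟨⟨a, d⟩, h, rfl⟩
      exact ⟨(d, a), ⟨h.2, h.1⟩, by rw [sw_blk, mul_inv_cancel_right]⟩

theorem Gd.step [Finite F] (h2 : (2 : F) ≠ 0) {T : Subgroup (GL κ F)} (hT : Gd b σ T)
    (hκ : Even (Fintype.card κ)) [Nontrivial κ] : ∃ R : Subgroup (GL (κ ⊕ κ) F), Gd b σ R := by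
  obtain ⟨P, h1, h3, h4, h5⟩ := exists_wr hT.syl
  obtain ⟨R, h6, h7⟩ := exists_isSylowOf_ge h3 h1
  exact ⟨R, h6, step_cen h2 hT hκ (fun a ha d hd _ => h7 (h4 a ha d hd)) (h7 h5), fun g hg =>
    step_nrm h2 hT hκ (fun a ha d hd _ => h7 (h4 a ha d hd)) (h7 h5) h6.isPGroup h6.le hg⟩

variable (b σ ι) in
/-- the special linear or unitary group -/
def SUB : Subgroup (GL ι F) := UB b σ ι ⊓ (GeneralLinearGroup.det (n := ι) (R := F)).ker

theorem mem_SUB {g : GL ι F} : g ∈ SUB b σ ι ↔ g ∈ UB b σ ι ∧ g.1.det = 1 := by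
  simp [SUB, Units.ext_iff]

theorem Gd.step' [Finite F] (h2 : (2 : F) ≠ 0) {T : Subgroup (GL κ F)} (hT : Gd b σ T)
    (hκ : Even (Fintype.card κ)) [Nontrivial κ] : ∃ R, IsSylowOf 2 R (SUB b σ (κ ⊕ κ)) ∧
      ∀ g ∈ normalizer (R : Set (GL (κ ⊕ κ) F)), Odd (orderOf g) → Sc g.1 := by
  obtain ⟨P, h1, h3, h4, h5⟩ := exists_wr hT.syl
  obtain ⟨R, h6, h7⟩ := exists_isSylowOf_ge (K := SUB b σ (κ ⊕ κ)) (h3.to_inf_left) inf_le_right
  exact ⟨R, h6, fun g hg => step_nrm h2 hT hκ (fun a ha d hd e => h7 ⟨h4 a ha d hd,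
    mem_SUB.mpr ⟨h1 (h4 a ha d hd), by simpa using e⟩⟩) (h7 ⟨h5, mem_SUB.mpr ⟨sw_mem, det_sw⟩⟩)
      h6.isPGroup (h6.le.trans inf_le_left) hg⟩

/-! ### Degree two -/

theorem lin_of_comm {u X : Matrix (Fin 2) (Fin 2) F} (hu : ¬ Sc u) (h : u * X = X * u) :
    ∃ α β : F, X = α • 1 + β • u := by
  have h1 := congrFun (congrFun h 0) 0
  have h2 := congrFun (congrFun h 0) 1
  have h3 := congrFun (congrFun h 1) 0
  simp only [mul_apply, Fin.sum_univ_two] at h1 h2 h3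
  by_cases a : u 0 1 = 0
  · by_cases c : u 1 0 = 0
    · have d : u 0 0 - u 1 1 ≠ 0 := fun e => hu ⟨u 0 0, by
        ext i j; fin_cases i <;> fin_cases j <;> simp [a, c, sub_eq_zero.mp e]⟩
      refine ⟨X 0 0 - (X 0 0 - X 1 1) / (u 0 0 - u 1 1) * u 0 0, (X 0 0 - X 1 1) / (u 0 0 - u 1 1), ?_⟩
      ext i j; fin_cases i <;> fin_cases j <;> simp [a, c] <;> grind
    · refine ⟨X 0 0 - X 1 0 / u 1 0 * u 0 0, X 1 0 / u 1 0, ?_⟩
      ext i j; fin_cases i <;> fin_cases j <;> simp <;> grind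
  · refine ⟨X 0 0 - X 0 1 / u 0 1 * u 0 0, X 0 1 / u 0 1, ?_⟩
    ext i j; fin_cases i <;> fin_cases j <;> simp <;> grind

theorem comm_two {u X Y : Matrix (Fin 2) (Fin 2) F} (hu : ¬ Sc u) (h : u * X = X * u)
    (h' : u * Y = Y * u) : X * Y = Y * X := by
  obtain ⟨α, β, rfl⟩ := lin_of_comm hu h
  simp [mul_add, add_mul, h']

theorem sc_of_two {u v X : Matrix (Fin 2) (Fin 2) F} (h : u * v ≠ v * u) (h1 : X * u = u * X)
    (h2 : X * v = v * X) : Sc X :=
  by_contra fun e => h (comm_two e h1 h2)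

theorem sign_two {s u : GL (Fin 2) F} {c : F} (h : s.1 * u.1 = c • (u.1 * s.1)) :
    s * u = u * s ∨ s * u = -(u * s) := by
  have h1 := congrArg det h
  rw [det_smul, det_mul, det_mul, mul_comm, Fintype.card_fin, eq_comm, mul_eq_right₀
    (mul_ne_zero u.det_ne_zero s.det_ne_zero), pow_two] at h1
  rcases mul_self_eq_one_iff.mp h1 with rfl | rfl
  · exact .inl (Units.ext (by simpa using h))
  · exact .inr (Units.ext (by simpa using h))

theorem two_case [Finite F] (h2 : (2 : F) ≠ 0) {R : Subgroup (GL (Fin 2) F)} (h5 : IsPGroup 2 R)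
    {i j : GL (Fin 2) F} (hi : i ∈ R) (hj : j ∈ R) (hij : i.1 * j.1 ≠ j.1 * i.1)
    {g : GL (Fin 2) F} (hg : g ∈ normalizer (R : Set (GL (Fin 2) F))) (ho : Odd (orderOf g)) :
    Sc g.1 ∨ ∃ u ∈ R, ∃ v ∈ R, u * v = -(v * u) ∧
      ∀ s ∈ R, (s * u = u * s ∨ s * u = -(u * s)) ∧ (s * v = v * s ∨ s * v = -(v * s)) := by
  obtain ⟨u, hu, h1⟩ := exists_PC h5 hi fun e => hij (e.comm _)
  have h3 := h1.conj hg
  have h4 := (mem_normalizer_iff.mp hg u).mp hu
  have k1 : ∀ s ∈ R, s * u = u * s ∨ s * u = -(u * s) := fun s hs =>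
    let ⟨_, e⟩ := h1.2 s hs; sign_two e
  have k2 : ∀ s ∈ R, s * (g * u * g⁻¹) = (g * u * g⁻¹) * s ∨ _ := fun s hs =>
    let ⟨_, e⟩ := h3.2 s hs; sign_two e
  rcases k2 u hu with e | e
  swap
  · exact .inr ⟨u, hu, _, h4, e, fun s hs => ⟨k1 s hs, k2 s hs⟩⟩
  left
  obtain ⟨s, hs, k3⟩ : ∃ s ∈ R, s * u = -(u * s) := by
    by_contra! hc
    have := fun s hs => congrArg Units.val ((k1 s hs).resolve_right (hc s hs))
    exact h1.1 (sc_of_two hij (this i hi).symm (this j hj).symm)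
  have k3' : s.1 * u.1 = -(u.1 * s.1) := congrArg Units.val k3
  have k4 : ∀ X : Matrix (Fin 2) (Fin 2) F, u.1 * X = X * u.1 → s.1 * X = X * s.1 → Sc X :=
    fun X e1 e2 => sc_of_two (fun e => by
      have := zero_of_neg h2 (k3'.symm.trans e.symm)
      exact (u * s).ne_zero this) e1.symm e2.symm
  obtain ⟨α, β, k5⟩ := lin_of_comm h1.1 (congrArg Units.val e)
  have k6 : α = 0 := by
    rcases k2 s hs with f | f
    · exact absurd (k4 _ (congrArg Units.val e) (congrArg Units.val f)) h3.1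
    · have := congrArg Units.val f
      rw [Units.val_neg, Units.val_mul, Units.val_mul _ s, k5] at this
      simp only [mul_add, add_mul, mul_smul_comm, smul_mul_assoc, k3', mul_one, one_mul, neg_add,
        smul_neg, add_left_inj] at this
      exact (smul_eq_zero.mp (zero_of_neg h2 this.symm)).resolve_right s.ne_zero
  have k7 : g.1 * u.1 = β • (u.1 * g.1) := by
    have := congrArg (· * g.1) k5
    simpa [k6] using this
  have k8 : g * u = u * g := by
    rcases sign_two k7 with f | f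
    · exact f
    · exact odd_sign ho (c := -1) (by simp) (by simpa using congrArg Units.val f)
  have k9 : s * g * s⁻¹ * u = u * (s * g * s⁻¹) := by
    have : s⁻¹ * u = -(u * s⁻¹) := by
      rw [inv_mul_eq_iff_eq_mul, mul_neg, ← mul_assoc, k3]; simp
    rw [mul_assoc, this, mul_neg, ← mul_assoc, mul_assoc s, k8, ← mul_assoc s, k3]
    simp [mul_assoc]
  have := odd_comm h5 ho hg hs (Units.ext (comm_two h1.1 (congrArg Units.val k9).symm
    (congrArg Units.val k8).symm))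
  exact k4 _ (congrArg Units.val k8).symm (congrArg Units.val this)

theorem exists_Q [Finite F] (h2 : (2 : F) ≠ 0) {x y : F} (h : x * x + y * y = -1)
    (hb : b → σ x = -x ∧ σ y = -y) : ∃ Q ≤ SUB b σ (Fin 2), IsPGroup 2 Q ∧
      ∃ i ∈ Q, ∃ j ∈ Q, i.1 * j.1 ≠ j.1 * i.1 := by
  let i : GL (Fin 2) F := .mkOfDetNeZero !![x, y; y, -x] (by simp [det_fin_two]; grind)
  let j : GL (Fin 2) F := .mkOfDetNeZero !![0, 1; -1, 0] (by simp [det_fin_two])
  have h1 : i * i = -1 := Units.ext (by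
    ext k l; fin_cases k <;> fin_cases l <;> simp [i, mul_apply, Fin.sum_univ_two] <;> grind)
  have h3 : j * j = -1 := Units.ext (by
    ext k l; fin_cases k <;> fin_cases l <;> simp [j, mul_apply, Fin.sum_univ_two])
  have h4 : j * i = -(i * j) := Units.ext (by
    ext k l; fin_cases k <;> fin_cases l <;> simp [i, j, mul_apply, Fin.sum_univ_two])
  have h5 : ∀ a : GL (Fin 2) F, a * a = -1 → IsPGroup 2 (zpowers a) := fun a e =>
    isP_zpowers 2 (by rw [show 2 ^ 2 = 2 * 2 by rfl, pow_mul, pow_two a, e]; simp)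
  refine ⟨zpowers j ⊔ zpowers i, sup_le (zpowers_le.mpr (mem_SUB.mpr ⟨fun _ => ?_, ?_⟩))
    (zpowers_le.mpr (mem_SUB.mpr ⟨fun e => ?_, ?_⟩)), (h5 j h3).to_sup_of_normal_right' (h5 i h1)
      (zpowers_le.mpr (mem_normalizer_fintype fun _ hy =>
        (zpowers_le (H := (zpowers i).comap (MulAut.conj j).toMonoidHom)).2 ?_ hy)),
    i, mem_sup_right (mem_zpowers _), j, mem_sup_left (mem_zpowers _), fun e => ?_⟩
  · ext k l; fin_cases k <;> fin_cases l <;> simp [j, mul_apply, Fin.sum_univ_two]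
  · simp [j, det_fin_two]
  · ext k l; fin_cases k <;> fin_cases l <;>
      simp [i, mul_apply, Fin.sum_univ_two, (hb e).1, (hb e).2] <;> grind
  · simp [i, det_fin_two]; grind
  · change j * i * j⁻¹ ∈ zpowers i
    rw [h4, neg_mul, mul_inv_cancel_right, ← neg_one_mul, ← h1]
    exact mul_mem (mul_mem (mem_zpowers _) (mem_zpowers _)) (mem_zpowers _)
  · exact (i * j).ne_zero (zero_of_neg h2 ((congrArg Units.val h4).symm.trans e.symm))

theorem gd_two [Finite F] (h2 : (2 : F) ≠ 0) {x y c : F} (h : x * x + y * y = -1)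
    (hb : b → σ x = -x ∧ σ y = -y) (c0 : c ≠ 0) (hc : b → c * σ c * 2 = 1) :
    ∃ T : Subgroup (GL (Fin 2) F), Gd b σ T := by
  obtain ⟨Q, h1, h3, i, hi, j, hj, hij⟩ := exists_Q h2 h hb
  obtain ⟨T, h4, h5⟩ := exists_isSylowOf_ge h3 (h1.trans inf_le_left)
  refine ⟨T, h4, fun X e => sc_of_two hij (e i (h5 hi) (mem_SUB.mp (h1 hi)).2).symm
    (e j (h5 hj) (mem_SUB.mp (h1 hj)).2).symm, fun g hg ho => ?_⟩
  refine (two_case h2 h4.isPGroup (h5 hi) (h5 hj) hij hg ho).resolve_right ?_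
  rintro ⟨u, hu, v, hv, huv, k⟩
  let w : GL (Fin 2) F := .mkOfDetNeZero !![c, c; -c, c] (by simp [det_fin_two]; grind)
  have w1 : w ∈ UB b σ (Fin 2) := fun e => by
    have := hc e
    ext k l; fin_cases k <;> fin_cases l <;> simp [w, mul_apply, Fin.sum_univ_two] <;> grind
  have w2 : w ^ 2 ∉ center _ := fun e => by
    obtain ⟨d, e⟩ := sc_iff.mpr e
    have := congrFun (congrFun e 0) 1
    simp [w, pow_two, mul_apply, Fin.sum_univ_two] at this
    grind
  have w4 : w ^ 4 ∈ center _ := sc_iff.mp ⟨-4 * c ^ 4, by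
    ext k l; fin_cases k <;> fin_cases l <;> simp [w, pow_succ, mul_apply, Fin.sum_univ_two] <;>
      ring⟩
  obtain ⟨n, m, hm, e⟩ := Nat.exists_eq_two_pow_mul_odd (orderOf_pos w).ne'
  obtain ⟨a, -, ha⟩ := h4.exists_conj_le (isP_zpowers (x := w ^ m) n (by
    rw [← pow_mul, mul_comm, ← e, pow_orderOf_eq_one])) (zpowers_le.mpr (pow_mem w1 m))
  have k1 := k _ (ha ⟨_, mem_zpowers _, rfl⟩)
  have k2 : ∀ s t : GL (Fin 2) F, s * t = t * s ∨ s * t = -(t * s) → s * s * t = t * (s * s) := by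
    rintro s t (e | e) <;> rw [mul_assoc, e] <;> simp [← mul_assoc, e]
  have k3 := sc_iff.mp (sc_of_two (fun e => (v * u).ne_zero (zero_of_neg h2
    ((congrArg Units.val huv).symm.trans e))) (congrArg Units.val (k2 _ _ k1.1))
      (congrArg Units.val (k2 _ _ k1.2)))
  have k4 : w ^ m * w ^ m ∈ center _ := by
    generalize w ^ m = z at k3
    simpa [mul_assoc] using (inferInstance : (center (GL (Fin 2) F)).Normal).conj_mem _ k3 a⁻¹
  obtain ⟨r, rfl⟩ := hm
  rw [← pow_add, show 2 * r + 1 + (2 * r + 1) = 4 * r + 2 by ring, pow_add, pow_mul] at k4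
  exact w2 ((mul_mem_cancel_left (pow_mem w4 r)).mp k4)

theorem gd_all [Finite F] (h2 : (2 : F) ≠ 0) {T : Subgroup (GL (Fin 2) F)} (h : Gd b σ T) (n : ℕ) :
    ∃ (κ : Type) (_ : Fintype κ) (_ : DecidableEq κ), Fintype.card κ = 2 ^ (n + 1) ∧
      ∃ T : Subgroup (GL κ F), Gd b σ T := by
  induction n with
  | zero => exact ⟨Fin 2, _, _, rfl, T, h⟩
  | succ n ih =>
    obtain ⟨κ, _, _, h1, T, hT⟩ := ih
    have : Nontrivial κ := Fintype.one_lt_card_iff_nontrivial.mp (h1 ▸ Nat.one_lt_two_pow (by simp))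
    exact ⟨κ ⊕ κ, _, _, by simp [h1]; ring, hT.step h2 (by simp [h1, Nat.even_pow])⟩

/-- change of the index set -/
def rx (e : ι ≃ κ) : GL ι F ≃* GL κ F := Units.mapEquiv (reindexAlgEquiv F F e).toMulEquiv

theorem rx_mem (e : ι ≃ κ) {g : GL ι F} (h : g ∈ SUB b σ ι) : rx e g ∈ SUB b σ κ := by
  have : (rx e g).1 = g.1.submatrix e.symm e.symm := rfl
  rw [mem_SUB] at h ⊢
  refine ⟨fun hb => ?_, by rw [this, det_submatrix_equiv_self, h.2]⟩
  rw [this, transpose_submatrix, ← submatrix_map, submatrix_mul_equiv, h.1 hb, submatrix_one_equiv]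

theorem exists_syl {G : Type*} [Group G] {φ : G →* GL ι F} (h1 : Function.Injective φ)
    {R : Subgroup (GL ι F)} (hR : IsSylowOf 2 R φ.range) :
    ∃ S : Sylow 2 G, (S : Subgroup G).map φ = R :=
  ⟨(hR.isPGroup.comap_of_injective _ h1).toSylow (by rw [index_comap]; exact hR.not_dvd),
    map_comap_eq_self hR.le⟩

theorem pron_SUB [Finite F] (h2 : (2 : F) ≠ 0) {T : Subgroup (GL (Fin 2) F)} (h : Gd b σ T)
    {G : Type*} [Group G] {φ : G →* GL ι F} (h1 : Function.Injective φ)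
    (h3 : φ.range = SUB b σ ι) {n : ℕ} (h4 : Fintype.card ι = 2 ^ (n + 2))
    {H : Subgroup (G ⧸ center G)} (hH : Odd H.index) : IsPronormal H := by
  obtain ⟨κ, _, _, h5, T, hT⟩ := gd_all h2 h n
  have : Nontrivial κ := Fintype.one_lt_card_iff_nontrivial.mp (h5 ▸ Nat.one_lt_two_pow (by simp))
  obtain ⟨R, h6, h7⟩ := hT.step' h2 (by simp [h5, Nat.even_pow])
  let e : ι ≃ κ ⊕ κ := Fintype.equivOfCardEq (by simp [h4, h5]; ring)
  have h8 : Function.Injective ((rx e).toMonoidHom.comp φ) := (rx e).injective.comp h1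
  have := Finite.of_injective _ h1
  obtain ⟨S, rfl⟩ := exists_syl h8 (R := R) (by
    convert h6
    refine le_antisymm ?_ fun g hg => ?_
    · rintro _ ⟨g, rfl⟩
      exact rx_mem e (h3 ▸ ⟨g, rfl⟩)
    · obtain ⟨x, hx⟩ := h3.ge (rx_mem e.symm hg)
      exact ⟨x, by simp [hx, rx, Units.ext_iff]⟩)
  refine selfnorm_quot S (fun g hg ho => mem_center_iff.mpr fun y => h8 ?_) hH
  rw [map_mul, map_mul]
  exact Units.ext ((h7 _ (le_normalizer_map _ ⟨g, hg, rfl⟩)
    (by rwa [orderOf_injective _ h8])).comm _).symm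

theorem pron_two [Finite F] (h2 : (2 : F) ≠ 0) {H : Subgroup PSL(2, F)} (hH : Odd H.index) :
    IsPronormal H := by
  obtain ⟨p, hp⟩ := CharP.exists F
  have := (CharP.char_ne_zero_of_finite F p)
  have : NeZero p := ⟨this⟩
  obtain ⟨x, y, h⟩ := CharP.sq_add_sq F p (-1)
  obtain ⟨Q, h1, h3, i, hi, j, hj, hij⟩ := exists_Q (b := False) (σ := .id F) h2
    (x := x) (y := y) (by simpa [pow_two] using h) False.elim
  have hr : (SpecialLinearGroup.toGL (n := Fin 2) (R := F)).range = SUB False (.id F) (Fin 2) := by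
    ext g
    rw [mem_SUB]
    exact ⟨by rintro ⟨g, rfl⟩; exact ⟨False.elim, g.2⟩, fun h => ⟨⟨g.1, h.2⟩, Units.ext rfl⟩⟩
  obtain ⟨R, h4, h5⟩ := exists_isSylowOf_ge h3 (hr ▸ h1)
  obtain ⟨S, rfl⟩ := exists_syl SpecialLinearGroup.toGL_injective h4
  by_cases hc : ∀ g ∈ normalizer ((S : Subgroup SL(2, F)) : Set SL(2, F)), Odd (orderOf g) →
    g ∈ center SL(2, F)
  · exact selfnorm_quot S hc hH
  push Not at hc
  obtain ⟨g, hg, ho, hc⟩ := hc
  obtain ⟨_, ⟨u, hu, rfl⟩, _, ⟨v, hv, rfl⟩, huv, k⟩ := (two_case h2 h4.isPGroup (h5 hi) (h5 hj) hij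
    (le_normalizer_map _ ⟨g, hg, rfl⟩) (by
      rwa [orderOf_injective _ SpecialLinearGroup.toGL_injective])).resolve_left fun e =>
        hc ((SpecialLinearGroup.toGL_mem_center_iff g).mp (sc_iff.mp e))
  have k0 : ∀ a c : SL(2, F), SpecialLinearGroup.toGL a = -SpecialLinearGroup.toGL c → a = -c :=
    fun a c e => Subtype.ext (congrArg Units.val e)
  have k1 : u * v = -(v * u) := k0 _ _ (by simpa only [map_mul] using huv)
  have k2 : u.1 * v.1 ≠ v.1 * u.1 := fun e => (SpecialLinearGroup.toGL (v * u)).ne_zero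
    (zero_of_neg h2 ((congrArg Subtype.val k1).symm.trans e))
  have k3 : ∀ a c : SL(2, F), (a : PSL(2, F)) * c = c * a ↔ a * c = c * a ∨ a * c = -(c * a) :=
    fun a c => Classical.SL2Basic.mk_eq_mk_iff
  have k4 : ∀ a : SL(2, F), a * u = u * a → a * v = v * a → (a : PSL(2, F)) = 1 := fun a e1 e2 =>
    (QuotientGroup.eq_one_iff _).mpr ((SpecialLinearGroup.toGL_mem_center_iff a).mp (sc_iff.mp
      (sc_of_two k2 (congrArg Subtype.val e1) (congrArg Subtype.val e2))))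
  have k5 : u⁻¹ * v = -(v * u⁻¹) := by
    rw [inv_mul_eq_iff_eq_mul, mul_neg, ← mul_assoc, k1]; simp
  have k6 : v⁻¹ * u = -(u * v⁻¹) := by
    rw [inv_mul_eq_iff_eq_mul, mul_neg, ← mul_assoc, ← neg_mul, ← k1]; simp
  have k7 : ∀ a : PSL(2, F), a * u = u * a → a * v = v * a →
      a = 1 ∨ a = u ∨ a = v ∨ a = u * v := fun a e1 e2 => by
    obtain ⟨a, rfl⟩ := QuotientGroup.mk_surjective a
    rcases (k3 _ _).mp e1 with e1 | e1 <;> rcases (k3 _ _).mp e2 with e2 | e2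
    · exact .inl (k4 a e1 e2)
    · refine .inr (.inl (mul_inv_eq_one.mp (k4 (a * u⁻¹) ?_ ?_)))
      · rw [← mul_assoc, ← e1]; simp
      · rw [mul_assoc, k5, mul_neg, ← mul_assoc, e2]; simp [mul_assoc]
    · refine .inr (.inr (.inl (mul_inv_eq_one.mp (k4 (a * v⁻¹) ?_ ?_))))
      · rw [mul_assoc, k6, mul_neg, ← mul_assoc, e1]; simp [mul_assoc]
      · rw [← mul_assoc, ← e2]; simp
    · refine .inr (.inr (.inr (mul_inv_eq_one.mp (k4 (a * (u * v)⁻¹) ?_ ?_))))
      · rw [_root_.mul_inv_rev, ← mul_assoc u, ← neg_neg (u * a), ← e1, neg_mul, mul_assoc a u,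
          ← mul_assoc u, ← neg_neg (u * v⁻¹), ← k6]
        simp [mul_assoc]
      · rw [_root_.mul_inv_rev, ← mul_assoc v, ← neg_neg (v * a), ← e2, mul_assoc, mul_assoc, k5]
        simp [mul_assoc]
  let P := S.mapSurjective (QuotientGroup.mk'_surjective (center SL(2, F)))
  have k8 : (u : PSL(2, F)) * v = v * u := (k3 _ _).mpr (.inr k1)
  have k9 : ∀ a : PSL(2, F), a = 1 ∨ a = u ∨ a = v ∨ a = u * v → a ∈ (P : Subgroup PSL(2, F)) := by
    rintro _ (rfl | rfl | rfl | rfl)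
    exacts [one_mem _, ⟨u, hu, rfl⟩, ⟨v, hv, rfl⟩, ⟨u * v, mul_mem hu hv, rfl⟩]
  have k10 : ¬ u * v = v * u := fun e => k2 (congrArg Subtype.val e)
  have hP : K4 (P : Subgroup PSL(2, F)) u v := by
    refine ⟨k4 (u * u) (mul_assoc _ _ _) ?_, k4 (v * v) ?_ (mul_assoc _ _ _), k8, fun e => k10 ?_,
      fun e => k10 ?_, fun e => k10 ?_, fun a => ⟨?_, k9 a⟩, fun a e1 e2 => k9 a (k7 a e1 e2)⟩
    · rw [mul_assoc, k1, mul_neg, ← mul_assoc, k1]; simp [mul_assoc]
    · rw [← mul_assoc, k1, neg_mul, mul_assoc v u v, k1]; simp [mul_assoc]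
    · exact (mem_center_iff.mp ((QuotientGroup.eq_one_iff _).mp e) v).symm
    · exact mem_center_iff.mp ((QuotientGroup.eq_one_iff _).mp e) u
    · rcases Classical.SL2Basic.mk_eq_mk_iff.mp e with rfl | rfl <;> simp
    · rintro ⟨s, hs, rfl⟩
      have k11 : ∀ a : SL(2, F), SpecialLinearGroup.toGL s * SpecialLinearGroup.toGL a =
          SpecialLinearGroup.toGL a * SpecialLinearGroup.toGL s ∨
          SpecialLinearGroup.toGL s * SpecialLinearGroup.toGL a =
          -(SpecialLinearGroup.toGL a * SpecialLinearGroup.toGL s) →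
          (s : PSL(2, F)) * a = a * s := fun a e => (k3 _ _).mpr (e.imp
            (fun e => Subtype.ext (congrArg Units.val e)) fun e => Subtype.ext (congrArg Units.val e))
      exact k7 _ (k11 _ (k _ ⟨s, hs, rfl⟩).1) (k11 _ (k _ ⟨s, hs, rfl⟩).2)
  obtain ⟨P', hP'⟩ := FGS.exists_sylow_le_of_not_dvd_index (p := 2) (H := H) (by
    rw [← even_iff_two_dvd]; exact Nat.not_even_iff_odd.mpr hH)
  obtain ⟨c, rfl⟩ := MulAction.exists_smul_eq PSL(2, F) P P'
  have := FGS.PN.conj (H := MulAut.conj c⁻¹ • H) (fun g _ => hP.pron (fun z z1 zo a d e1 e2 => ?_)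
    (by rwa [map_inv, subset_pointwise_smul_iff, inv_inv]) g) c
  · rw [smul_smul, ← map_mul, mul_inv_cancel, map_one, one_smul] at this
    exact fun g => this g trivial
  obtain ⟨z, rfl⟩ := QuotientGroup.mk_surjective z
  obtain ⟨a, rfl⟩ := QuotientGroup.mk_surjective a
  obtain ⟨d, rfl⟩ := QuotientGroup.mk_surjective d
  have k12 : ∀ a : SL(2, F), Commute (z : PSL(2, F)) a → z.1 * a.1 = a.1 * z.1 := fun a e => by
    rcases (k3 _ _).mp e with e | e
    · exact congrArg Subtype.val e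
    have k13 : z ^ orderOf (z : PSL(2, F)) * a = -(a * z ^ orderOf (z : PSL(2, F))) := by
      obtain ⟨n, hn⟩ := zo
      have : Commute (z * z) a := by
        rw [Commute, SemiconjBy, mul_assoc, e, mul_neg, ← mul_assoc, e]; simp [mul_assoc]
      rw [hn, pow_succ, pow_mul, pow_two, mul_assoc, e, mul_neg, ← mul_assoc,
        (this.pow_left n).eq, mul_assoc]
    rw [← mem_center_iff.mp ((QuotientGroup.eq_one_iff _).mp (by
      rw [QuotientGroup.mk_pow, pow_orderOf_eq_one])) a] at k13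
    exact absurd (zero_of_neg h2 (congrArg Subtype.val k13).symm)
      (SpecialLinearGroup.toGL (a * z ^ orderOf (z : PSL(2, F)))).ne_zero
  exact congrArg QuotientGroup.mk (Subtype.ext (comm_two (fun e => z1
    ((QuotientGroup.eq_one_iff _).mpr ((SpecialLinearGroup.toGL_mem_center_iff z).mp
      (sc_iff.mp e)))) (k12 a e1) (k12 d e2)) : a * d = d * a)

theorem two_ne_or (F : Type*) [Field F] : (2 : F) ≠ 0 ∨ CharP F 2 :=
  (ne_or_eq _ _).imp id fun h => (CharP.charP_iff_prime_eq_zero Nat.prime_two).mpr h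

theorem pron_PSL [Finite F] (h2 : (2 : F) ≠ 0) {n : ℕ}
    {H : Subgroup (ProjectiveSpecialLinearGroup (Fin (2 ^ (n + 2))) F)} (hH : Odd H.index) :
    IsPronormal H := by
  obtain ⟨p, hp⟩ := CharP.exists F
  have : NeZero p := ⟨CharP.char_ne_zero_of_finite F p⟩
  obtain ⟨x, y, h⟩ := CharP.sq_add_sq F p (-1)
  obtain ⟨T, hT⟩ := gd_two (b := False) (σ := .id F) h2 (x := x) (y := y)
    (by simpa [pow_two] using h) False.elim one_ne_zero False.elim
  refine pron_SUB h2 hT SpecialLinearGroup.toGL_injective ?_ (Fintype.card_fin _) hH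
  ext g
  rw [mem_SUB]
  exact ⟨by rintro ⟨g, rfl⟩; exact ⟨False.elim, g.2⟩, fun h => ⟨⟨g.1, h.2⟩, Units.ext rfl⟩⟩

theorem mem_SU_iff [Finite F] {n q : ℕ} (hF : Nat.card F = q ^ 2)
    {g : SpecialLinearGroup (Fin n) F} : g ∈ SU n F q ↔ g.1ᵀ * g.1.map (Herm.frob hF) = 1 := by
  have k : ∀ u v, hermForm n F q (g.1 *ᵥ u) (g.1 *ᵥ v) =
      u ⬝ᵥ (g.1ᵀ * g.1.map (Herm.frob hF)) *ᵥ (Herm.frob hF ∘ v) := fun u v => by
    rw [← mulVec_mulVec, dotProduct_mulVec, vecMul_transpose]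
    exact Finset.sum_congr rfl fun i _ => by rw [← RingHom.map_mulVec]; rfl
  refine ⟨fun h => ?_, fun h u v => (k u v).trans (by rw [h, one_mulVec]; rfl)⟩
  ext i j
  have h1 := (k (Pi.single i 1) (Pi.single j 1)).symm.trans (h _ _)
  have h3 : Herm.frob hF ∘ (Pi.single j 1 : Fin n → F) = Pi.single j 1 := by
    ext l; by_cases e : l = j <;> simp [e]
  change _ = Pi.single i 1 ⬝ᵥ (Herm.frob hF ∘ Pi.single j 1) at h1
  rw [h3] at h1
  simpa [one_apply, Pi.single_apply, eq_comm] using h1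

theorem pron_PSU [Finite F] (h2 : (2 : F) ≠ 0) {n q : ℕ} (hF : Nat.card F = q ^ 2)
    {H : Subgroup (PSU (2 ^ (n + 2)) F q)} (hH : Odd H.index) : IsPronormal H := by
  have hσ := Herm.inv_frob hF
  have := Fintype.ofFinite F
  obtain ⟨r, hr⟩ : IsSquare (-1 : F) := FiniteField.isSquare_neg_one_iff.mpr (by
    rw [← Nat.card_eq_fintype_card, hF, Nat.pow_mod]
    have : q % 4 < 4 := Nat.mod_lt _ (by norm_num)
    generalize q % 4 = s at this
    interval_cases s <;> simp)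
  obtain ⟨x, y, h, hb⟩ : ∃ x y : F, x * x + y * y = -1 ∧
      Herm.frob hF x = -x ∧ Herm.frob hF y = -y := by
    have h1 : Herm.frob hF r * Herm.frob hF r = r * r := by rw [← map_mul, ← hr]; simp
    rcases mul_self_eq_mul_self_iff.mp h1 with e | e
    · obtain ⟨a, a0, ha⟩ := hσ.exists_skew
      have ha' : Herm.frob hF a = -a := by rw [eq_neg_iff_add_eq_zero, add_comm, ha]
      have r0 : r ≠ 0 := by rintro rfl; simp at hr
      refine ⟨(a - a⁻¹) / 2, (a + a⁻¹) / (2 * r), by grind, ?_, ?_⟩ <;>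
        simp only [map_div₀, map_sub, map_add, map_inv₀, map_mul, map_ofNat, ha', e] <;> ring
    · exact ⟨r, 0, by simp [← hr], e, by simp⟩
  obtain ⟨c, hc⟩ := hσ.exists_norm (μ := 2⁻¹) (by simp [map_ofNat])
  obtain ⟨T, hT⟩ := gd_two (b := True) (σ := Herm.frob hF) h2 h (fun _ => hb) (c := c)
    (by rintro rfl; exact inv_ne_zero h2 (by rw [← hc, mul_zero])) fun _ => by rw [mul_comm c, hc, inv_mul_cancel₀ h2]
  refine pron_SUB h2 hT (φ := SpecialLinearGroup.toGL.comp (SU _ F q).subtype)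
    (SpecialLinearGroup.toGL_injective.comp Subtype.val_injective) ?_ (Fintype.card_fin _) hH
  ext g
  rw [mem_SUB]
  exact ⟨by rintro ⟨g, rfl⟩; exact ⟨fun _ => (mem_SU_iff hF).mp g.2, g.1.2⟩,
    fun h => ⟨⟨⟨g.1, h.2⟩, (mem_SU_iff hF).mpr (h.1 trivial)⟩, Units.ext rfl⟩⟩

end Cfsg.Agent.ULT
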